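import Groth.Agent.SepApproxLib.Main

/-!
# A finite solution can be replaced by a separable one
-/

set_option autoImplicit false
set_option linter.style.haveILetI false
set_option maxHeartbeats 1000000

universe u

open Polynomial
open scoped TensorProduct

noncomputable section

namespace Groth.Agent.SepApproxLib

/-- Separable algebraic extensions are geometrically reduced. -/
theorem isGeometricallyReduced_of_separable (k L : Type u) [Field k] [Field L] [Algebra k L]
    [Algebra.IsSeparable k L] : Algebra.IsGeometricallyReduced k L := by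
  rw [Algebra.isGeometricallyReduced_field_iff]
  refine IsReduced.tensorProduct_of_flat_of_forall_fg fun B hB => ?_
  obtain ⟨s, rfl⟩ := hB
  let E := IntermediateField.adjoin k (s : Set L)
  haveI : FiniteDimensional k E :=
    IntermediateField.finiteDimensional_adjoin fun x _ => Algebra.IsIntegral.isIntegral x
  haveI : Algebra.IsSeparable k E := Algebra.isSeparable_tower_bot_of_isSeparable k E L
  haveI : Algebra.FormallyUnramified k E := Algebra.FormallyUnramified.of_isSeparable k E
  have hle : Algebra.adjoin k (s : Set L) ≤ E.toSubalgebra :=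
    IntermediateField.algebra_adjoin_le_adjoin k _
  let Ω := AlgebraicClosure k
  haveI : IsReduced (Ω ⊗[k] E) := Algebra.FormallyUnramified.isReduced_of_field Ω (Ω ⊗[k] E)
  exact isReduced_of_injective (Algebra.TensorProduct.map (AlgHom.id k Ω) (Subalgebra.inclusion hle))
    (Module.Flat.lTensor_preserves_injective_linearMap _ (Subalgebra.inclusion_injective hle))

/-- A non-separable finite extension has a purely inseparable top step of degree `p`. -/
theorem exists_step {p : ℕ} [Fact p.Prime] (K E : Type u) [Field K] [Field E] [Algebra K E] [CharP K p]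
    [FiniteDimensional K E] (h : separableClosure K E ≠ ⊤) :
    ∃ K₁ : IntermediateField K E, IsPurelyInseparable K₁ E ∧ Module.finrank K₁ E = p := by
  classical
  have hp : p.Prime := Fact.out
  let S : Set ℕ := {n | ∃ K₁ : IntermediateField K E, separableClosure K E ≤ K₁ ∧ K₁ ≠ ⊤ ∧ Module.finrank K K₁ = n}
  have hbdd : BddAbove S := ⟨Module.finrank K E, by
    rintro n ⟨K₁, -, -, rfl⟩
    exact Submodule.finrank_le (Subalgebra.toSubmodule K₁.toSubalgebra)⟩
  obtain ⟨K₁, hle, hne, hn⟩ := Nat.sSup_mem (s := S) ⟨_, separableClosure K E, le_rfl, h, rfl⟩ hbdd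
  haveI : IsPurelyInseparable (separableClosure K E) E := inferInstance
  haveI : IsPurelyInseparable K₁ E := by
    letI : Algebra (separableClosure K E) K₁ := (IntermediateField.inclusion hle).toRingHom.toAlgebra
    haveI : IsScalarTower (separableClosure K E) K₁ E := IsScalarTower.of_algebraMap_eq fun _ => rfl
    exact IsPurelyInseparable.tower_top (separableClosure K E) K₁ E
  refine ⟨K₁, inferInstance, ?_⟩
  haveI : CharP K₁ p := charP_of_injective_algebraMap (algebraMap K K₁).injective p
  haveI : ExpChar K₁ p := ExpChar.prime hp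
  obtain ⟨x, hx⟩ : ∃ x, x ∉ K₁ := by
    by_contra! hall
    exact hne (eq_top_iff.2 fun x _ => hall x)
  have hex : ∃ n, x ^ p ^ n ∈ K₁ := by
    obtain ⟨n, r, hr⟩ := IsPurelyInseparable.pow_mem K₁ p x
    exact ⟨n, hr ▸ r.2⟩
  obtain ⟨m, hm⟩ : ∃ m, Nat.find hex = m + 1 := Nat.exists_eq_succ_of_ne_zero fun h0 => hx (by
    simpa [h0] using Nat.find_spec hex)
  set y := x ^ p ^ m with hy
  have hy1 : y ∉ K₁ := Nat.find_min hex (by omega)
  have hyp : y ^ p ∈ K₁ := by
    rw [hy, ← pow_mul, ← pow_succ, ← hm]
    exact Nat.find_spec hex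
  have htop : K₁ ⊔ IntermediateField.adjoin K {y} = ⊤ := by
    by_contra hne'
    have h1 : Module.finrank K ↥(K₁ ⊔ IntermediateField.adjoin K {y}) ≤ sSup S :=
      le_csSup hbdd ⟨_, hle.trans le_sup_left, hne', rfl⟩
    rw [← hn] at h1
    have h2 := IntermediateField.eq_of_le_of_finrank_le (le_sup_left : K₁ ≤ K₁ ⊔ IntermediateField.adjoin K {y}) h1
    exact hy1 (h2 ▸ (le_sup_right : IntermediateField.adjoin K {y} ≤ _) (IntermediateField.mem_adjoin_simple_self K y))
  have hgen : IntermediateField.adjoin K₁ ({y} : Set E) = ⊤ := by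
    apply IntermediateField.restrictScalars_injective K
    rw [IntermediateField.restrictScalars_top, eq_top_iff, ← htop]
    refine sup_le (fun z hz => ?_) (IntermediateField.adjoin_le_iff.2 ?_)
    · exact (IntermediateField.adjoin K₁ ({y} : Set E)).algebraMap_mem ⟨z, hz⟩
    · rintro _ rfl
      exact IntermediateField.mem_adjoin_simple_self K₁ _
  have hirr : Irreducible (X ^ p - C ⟨y ^ p, hyp⟩ : K₁[X]) := X_pow_sub_C_irreducible_of_prime hp fun b hb => by
    haveI : CharP E p := charP_of_injective_algebraMap (algebraMap K E).injective p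
    refine hy1 ?_
    have h1 : (b : E) ^ p = y ^ p := congrArg Subtype.val hb
    have h2 : (b : E) = y := frobenius_inj E p (by simpa [frobenius_def] using h1)
    exact h2 ▸ b.2
  have hroot : aeval y (X ^ p - C ⟨y ^ p, hyp⟩ : K₁[X]) = 0 := by
    simp [map_sub, map_pow, aeval_X, aeval_C]
  have hmin : minpoly K₁ y = X ^ p - C ⟨y ^ p, hyp⟩ :=
    (minpoly.eq_of_irreducible_of_monic hirr hroot (monic_X_pow_sub_C _ hp.ne_zero)).symm
  have h1 := IntermediateField.adjoin.finrank (Algebra.IsIntegral.isIntegral (R := K₁) y)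
  rw [hgen, IntermediateField.finrank_top', hmin, natDegree_X_pow_sub_C] at h1
  exact h1

theorem separable_solution (A B K L : Type u) [CommRing A] [IsDomain A] [IsDiscreteValuationRing A]
    [CommRing B] [IsDomain B] [IsDiscreteValuationRing B] [Algebra A B] [IsLocalHom (algebraMap A B)]
    (hinj : Function.Injective (algebraMap A B))
    [Field K] [Field L] [Algebra A K] [IsFractionRing A K] [Algebra B L] [IsFractionRing B L]
    [Algebra K L] [Algebra A L] [IsScalarTower A K L] [IsScalarTower A B L] [Algebra.IsSeparable K L] (hB : CAlg.IsNagata B)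
    (K₂ : Type u) [Field K₂] [Algebra K K₂] [FiniteDimensional K K₂] (h₂ : EtRam.IsSolution B K L K₂) :
    ∃ (K₃ : Type u) (_ : Field K₃) (_ : Algebra K K₃) (_ : FiniteDimensional K K₃) (_ : Algebra.IsSeparable K K₃),
      EtRam.IsSolution B K L K₃ := by
  induction hN : Field.finInsepDegree K K₂ using Nat.strong_induction_on generalizing K₂ with
  | h N ih =>
    by_cases hsep : Algebra.IsSeparable K K₂
    · exact ⟨K₂, inferInstance, inferInstance, inferInstance, hsep, h₂⟩
    obtain ⟨p, hpK⟩ := CharP.exists K
    rcases CharP.char_is_prime_or_zero K p with hp | hp0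
    · haveI : Fact p.Prime := ⟨hp⟩
      haveI := isGeometricallyReduced_of_separable K L
      obtain ⟨K₁, hins, hdeg⟩ := exists_step (p := p) K K₂ fun h => hsep ((separableClosure.eq_top_iff K K₂).1 h)
      haveI := hins
      obtain ⟨K₃, i₁, i₂, i₃, i₄, hfin, hsep₃, h₃⟩ :=
        exists_separable_solution p hp A B K L hinj hB K₁ K₂ h₂ hdeg
      haveI := hfin
      haveI := hsep₃
      haveI : FiniteDimensional K K₃ := FiniteDimensional.trans K K₁ K₃
      refine ih (Field.finInsepDegree K K₃) ?_ K₃ h₃ rfl
      rw [← hN, ← Field.finInsepDegree_mul_finInsepDegree_of_isAlgebraic K K₁ K₃,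
        ← Field.finInsepDegree_mul_finInsepDegree_of_isAlgebraic K K₁ K₂,
        Algebra.IsSeparable.finInsepDegree_eq K₁ K₃, IsPurelyInseparable.finInsepDegree_eq K₁ K₂, hdeg]
      refine Nat.mul_lt_mul_of_pos_left hp.one_lt ?_
      rw [Field.finInsepDegree]
      exact Module.finrank_pos
    · subst hp0
      haveI : CharZero K := CharP.charP_to_charZero K
      exact absurd (inferInstance : Algebra.IsSeparable K K₂) hsep

end Groth.Agent.SepApproxLib
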