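import Groth.Agent.SepApproxLib.Tools

/-!
# Transfer of the conditions of a solution between close subfields
-/

set_option autoImplicit false
set_option backward.isDefEq.respectTransparency false
set_option linter.style.haveILetI false
set_option linter.unusedSectionVars false
set_option maxHeartbeats 1000000

universe u

open IsLocalRing

noncomputable section

namespace Groth.Agent.SepApproxLib

variable {Ω F P : Type u} [Field Ω] [Field F] [Field P]

/-- The residue field of the trace of a valuation ring on a subfield, inside the residue field. -/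
def resIncl (V : ValuationSubring Ω) (g : F →+* Ω) : ResidueField (V.comap g) →+* ResidueField V :=
  ResidueField.map (EtRam.inclOfComap V g)

theorem resIncl_residue (V : ValuationSubring Ω) (g : F →+* Ω) (x : V.comap g) :
    resIncl V g (residue _ x) = residue V ⟨g x, x.2⟩ := rfl

theorem residue_eq_of_lt (V : ValuationSubring Ω) {x y : Ω} (hx : x ∈ V) (hy : y ∈ V) (h : V.valuation (x - y) < 1) :
    residue V ⟨x, hx⟩ = residue V ⟨y, hy⟩ := by
  rw [← sub_eq_zero, ← map_sub, residue_eq_zero_iff, V.valuation_lt_one_iff]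
  exact h

theorem range_resIncl_le {F' : Type u} [Field F'] (V : ValuationSubring Ω) (g : F →+* Ω) (g' : F' →+* Ω)
    (h : ∀ x, V.valuation (g x) ≤ 1 → ∃ y, V.valuation (g' y) ≤ 1 ∧ V.valuation (g x - g' y) < 1) :
    (resIncl V g).range ≤ (resIncl V g').range := by
  rintro _ ⟨z, rfl⟩
  obtain ⟨x, rfl⟩ := residue_surjective z
  obtain ⟨y, hy, hxy⟩ := h x ((V.valuation_le_one_iff _).2 x.2)
  refine ⟨residue _ ⟨y, (V.valuation_le_one_iff _).1 hy⟩, ?_⟩
  rw [resIncl_residue, resIncl_residue]
  exact (residue_eq_of_lt V _ _ hxy).symm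

/-- An isomorphism between subfields with equal images. -/
theorem exists_equiv_of_range_eq {k k' Λ : Type u} [Field k] [Field k'] [Field Λ] (j : k →+* Λ) (j' : k' →+* Λ)
    (h : j.range = j'.range) : ∃ σ : k ≃+* k', ∀ a, j' (σ a) = j a := by
  have e : ∀ a, ∃ b, j' b = j a := fun a => (h ▸ ⟨a, rfl⟩ : j a ∈ j'.range)
  choose s hs using e
  let σ : k →+* k' :=
    { toFun := s
      map_one' := j'.injective (by rw [hs, map_one, map_one])
      map_mul' := fun a b => j'.injective (by rw [hs, map_mul, map_mul, hs, hs])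
      map_zero' := j'.injective (by rw [hs, map_zero, map_zero])
      map_add' := fun a b => j'.injective (by rw [hs, map_add, map_add, hs, hs]) }
  refine ⟨RingEquiv.ofBijective σ ⟨σ.injective, fun b => ?_⟩, hs⟩
  obtain ⟨a, ha⟩ := (h.symm ▸ ⟨b, rfl⟩ : j' b ∈ j.range)
  exact ⟨a, j'.injective ((hs a).trans ha)⟩

variable {F' P' : Type u} [Field F'] [Field P']

/-- The transfer. -/
theorem transfer (V : ValuationSubring Ω) (g : F →+* Ω) (g' : F' →+* Ω) (f : P →+* F) (f' : P' →+* F')
    (hF : ∀ x, V.valuation (g x) ≤ 1 → ∃ y, V.valuation (g' y) = V.valuation (g x) ∧ V.valuation (g x - g' y) < 1)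
    (hF' : ∀ y, V.valuation (g' y) ≤ 1 → ∃ x, V.valuation (g x) = V.valuation (g' y) ∧ V.valuation (g x - g' y) < 1)
    (hP : ∀ x, V.valuation (g (f x)) ≤ 1 →
      ∃ y, V.valuation (g' (f' y)) = V.valuation (g (f x)) ∧ V.valuation (g (f x) - g' (f' y)) < 1)
    (hP' : ∀ y, V.valuation (g' (f' y)) ≤ 1 →
      ∃ x, V.valuation (g (f x)) = V.valuation (g' (f' y)) ∧ V.valuation (g (f x) - g' (f' y)) < 1)
    (hsol : letI : Algebra ((V.comap g).comap f) (V.comap g) := (EtRam.inclOfComap (V.comap g) f).toAlgebra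
      EtRam.IsWeaklyUnramified ((V.comap g).comap f) (V.comap g) ∧
      @Algebra.IsGeometricallyReduced (ResidueField ((V.comap g).comap f)) (ResidueField (V.comap g)) _ _
        (ResidueField.map (EtRam.inclOfComap (V.comap g) f)).toAlgebra) :
    letI : Algebra ((V.comap g').comap f') (V.comap g') := (EtRam.inclOfComap (V.comap g') f').toAlgebra
    EtRam.IsWeaklyUnramified ((V.comap g').comap f') (V.comap g') ∧
      @Algebra.IsGeometricallyReduced (ResidueField ((V.comap g').comap f')) (ResidueField (V.comap g')) _ _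
        (ResidueField.map (EtRam.inclOfComap (V.comap g') f')).toAlgebra := by
  classical
  letI : Algebra ((V.comap g).comap f) (V.comap g) := (EtRam.inclOfComap (V.comap g) f).toAlgebra
  letI : Algebra ((V.comap g').comap f') (V.comap g') := (EtRam.inclOfComap (V.comap g') f').toAlgebra
  haveI : IsLocalHom (algebraMap ((V.comap g').comap f') (V.comap g')) := EtRam.isLocalHom_inclOfComap _ _
  obtain ⟨hw, hgr⟩ := hsol
  have hnu : ∀ {E : Type u} [Field E] (h : E →+* Ω) (x : V.comap h),
      x ∈ maximalIdeal (V.comap h) ↔ V.valuation (h x) < 1 := by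
    intro E _ h x
    rw [← (map_mem_nonunits_iff (EtRam.inclOfComap V h) x).trans (mem_maximalIdeal x).symm]
    exact (mem_maximalIdeal _).symm.trans (V.valuation_lt_one_iff _)
  have hnu2 : ∀ {E E' : Type u} [Field E] [Field E'] (h : E →+* Ω) (q : E' →+* E) (x : (V.comap h).comap q),
      x ∈ maximalIdeal ((V.comap h).comap q) ↔ V.valuation (h (q x)) < 1 := by
    intro E E' _ _ h q x
    rw [← hnu h ⟨q x, x.2⟩]
    exact (mem_maximalIdeal x).trans ((map_mem_nonunits_iff (EtRam.inclOfComap (V.comap h) q) x).symm.trans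
      (mem_maximalIdeal _).symm)
  refine ⟨?_, ?_⟩
  · refine le_antisymm (Ideal.map_le_iff_le_comap.2 fun x hx => map_nonunit (algebraMap _ (V.comap g')) x hx) fun y hy => ?_
    have hy1 : V.valuation (g' y) < 1 := (hnu g' y).1 hy
    obtain ⟨x, hxy, -⟩ := hF' y hy1.le
    have hxV : (x : F) ∈ V.comap g := (V.valuation_le_one_iff _).1 (hxy ▸ hy1.le)
    have hxm : (⟨x, hxV⟩ : V.comap g) ∈ maximalIdeal (V.comap g) := (hnu g _).2 (hxy ▸ hy1)
    rw [← hw] at hxm
    obtain ⟨ρ, hρ, hle⟩ : ∃ ρ : P, V.valuation (g (f ρ)) < 1 ∧ V.valuation (g x) ≤ V.valuation (g (f ρ)) := by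
      suffices ∀ z ∈ (maximalIdeal ((V.comap g).comap f)).map (algebraMap _ (V.comap g)),
          ∃ ρ : P, V.valuation (g (f ρ)) < 1 ∧ V.valuation (g z) ≤ V.valuation (g (f ρ)) from this _ hxm
      intro z hz
      induction hz using Submodule.span_induction with
      | mem z hz =>
        obtain ⟨ρ, hρ, rfl⟩ := hz
        exact ⟨ρ, (hnu2 g f ρ).1 hρ, le_rfl⟩
      | zero => exact ⟨0, by simp, by simp⟩
      | add z w _ _ hz hw' =>
        obtain ⟨ρ₁, h1, h2⟩ := hz
        obtain ⟨ρ₂, h3, h4⟩ := hw'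
        rcases le_total (V.valuation (g (f ρ₁))) (V.valuation (g (f ρ₂))) with h | h
        · refine ⟨ρ₂, h3, ?_⟩
          show V.valuation (g ((z : F) + w)) ≤ _
          rw [map_add]
          exact (Valuation.map_add _ _ _).trans (max_le (h2.trans h) h4)
        · refine ⟨ρ₁, h1, ?_⟩
          show V.valuation (g ((z : F) + w)) ≤ _
          rw [map_add]
          exact (Valuation.map_add _ _ _).trans (max_le h2 (h4.trans h))
      | smul r z _ hz =>
        obtain ⟨ρ, h1, h2⟩ := hz
        refine ⟨ρ, h1, ?_⟩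
        show V.valuation (g ((r : F) * z)) ≤ _
        rw [map_mul, map_mul]
        exact (mul_le_of_le_one_left' ((V.valuation_le_one_iff _).2 r.2)).trans h2
    obtain ⟨ρ', hρ', -⟩ := hP ρ hρ.le
    have hρ'V : ρ' ∈ (V.comap g').comap f' := (V.valuation_le_one_iff _).1 (hρ' ▸ hρ.le)
    rcases eq_or_ne (g' (f' ρ')) 0 with h0 | h0
    · have h1 : V.valuation (g' y) = 0 := le_antisymm (by
        rw [← hxy]; exact hle.trans (by rw [← hρ', h0, map_zero])) zero_le'
      rw [map_eq_zero, map_eq_zero_iff _ g'.injective] at h1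
      rw [show y = 0 from Subtype.ext h1]
      exact zero_mem _
    · have hf0 : f' ρ' ≠ 0 := fun h => h0 (by rw [h, map_zero])
      have hq : (y : F') / f' ρ' ∈ V.comap g' := (V.valuation_le_one_iff _).1 (by
        rw [map_div₀, map_div₀]
        exact div_le_one_of_le₀ (by rw [← hxy, hρ']; exact hle) zero_le')
      rw [show y = algebraMap _ (V.comap g') (⟨ρ', hρ'V⟩ : (V.comap g').comap f') * ⟨_, hq⟩ from
        Subtype.ext (mul_div_cancel₀ (y : F') hf0).symm]
      exact Ideal.mul_mem_right _ _ (Ideal.mem_map_of_mem _ ((hnu2 g' f' _).2 (hρ' ▸ hρ)))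
  · have hrF : (resIncl V g').range = (resIncl V g).range := le_antisymm
      (range_resIncl_le V g' g fun y hy => by
        obtain ⟨x, h1, h2⟩ := hF' y hy
        exact ⟨x, h1 ▸ hy, by rw [Valuation.map_sub_swap]; exact h2⟩)
      (range_resIncl_le V g g' fun x hx => by
        obtain ⟨y, h1, h2⟩ := hF x hx
        exact ⟨y, h1 ▸ hx, h2⟩)
    let jP := (resIncl V g).comp (ResidueField.map (EtRam.inclOfComap (V.comap g) f))
    let jP' := (resIncl V g').comp (ResidueField.map (EtRam.inclOfComap (V.comap g') f'))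
    have hrP : jP'.range = jP.range := by
      refine le_antisymm ?_ ?_
      · rintro _ ⟨z, rfl⟩
        obtain ⟨y, rfl⟩ := residue_surjective z
        obtain ⟨x, h1, h2⟩ := hP' y ((V.valuation_le_one_iff _).2 y.2)
        refine ⟨residue _ ⟨x, (V.valuation_le_one_iff _).1 (h1.trans_le ((V.valuation_le_one_iff _).2 y.2))⟩, ?_⟩
        exact residue_eq_of_lt V (x := g (f x)) (y := g' (f' y)) _ _ h2
      · rintro _ ⟨z, rfl⟩
        obtain ⟨x, rfl⟩ := residue_surjective z
        obtain ⟨y, h1, h2⟩ := hP x ((V.valuation_le_one_iff _).2 x.2)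
        refine ⟨residue _ ⟨y, (V.valuation_le_one_iff _).1 (h1.trans_le ((V.valuation_le_one_iff _).2 x.2))⟩, ?_⟩
        exact (residue_eq_of_lt V (x := g (f x)) (y := g' (f' y)) _ _ h2).symm
    obtain ⟨σ, hσ⟩ := exists_equiv_of_range_eq jP' jP hrP
    obtain ⟨τ, hτ⟩ := exists_equiv_of_range_eq (resIncl V g') (resIncl V g) hrF
    letI := (ResidueField.map (EtRam.inclOfComap (V.comap g) f)).toAlgebra
    letI := (ResidueField.map (EtRam.inclOfComap (V.comap g') f')).toAlgebra
    haveI := hgr
    exact isGeometricallyReduced_of_equiv σ τ fun a => (resIncl V g).injective ((hτ _).trans (hσ a).symm)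

end Groth.Agent.SepApproxLib
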