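import Groth.Agent.SepApproxLib.Norm
import Groth.Agent.SepApproxLib.Transfer
import Groth.Agent.PInsepStepLib.Final

/-!
# A purely inseparable solution of degree `p` can be replaced by a separable one
-/

set_option autoImplicit false
set_option backward.isDefEq.respectTransparency false
set_option linter.style.haveILetI false
set_option linter.unusedSectionVars false
set_option maxHeartbeats 2000000
set_option synthInstance.maxHeartbeats 100000

universe u

open IsLocalRing Polynomial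
open scoped TensorProduct

noncomputable section

namespace Groth.Agent.SepApproxLib

/-- A valuation ring of an extension with given trace. -/
theorem exists_extension {F Ω : Type u} [Field F] [Field Ω] (g : F →+* Ω) (W : ValuationSubring F) :
    ∃ V : ValuationSubring Ω, V.comap g = W := by
  let S : Subring Ω := W.toSubring.map g
  let e : W ≃+* S := W.toSubring.equivMapOfInjective g g.injective
  let I : Ideal S := (maximalIdeal W).comap e.symm.toRingHom
  have hI : I ≠ ⊤ := (Ideal.comap_isMaximal_of_surjective _ e.symm.surjective).ne_top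
  obtain ⟨V, hV, hIV⟩ := Ideal.image_subset_nonunits_valuationSubring I hI
  refine ⟨V, SetLike.ext fun x => ⟨fun hx => ?_, fun hx => hV ⟨x, hx, rfl⟩⟩⟩
  by_contra hxW
  have hxi : x⁻¹ ∈ W := (W.mem_or_inv_mem x).resolve_left hxW
  have hx0 : x ≠ 0 := fun h => hxW (h ▸ zero_mem _)
  have hm : (⟨x⁻¹, hxi⟩ : W) ∈ maximalIdeal W := by
    rw [mem_maximalIdeal, mem_nonunits_iff]
    intro hu
    obtain ⟨w, hw⟩ := hu.exists_right_inv
    have h1 : x⁻¹ * w.1 = 1 := congrArg Subtype.val hw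
    refine hxW ?_
    rw [show x = w.1 from ((eq_inv_of_mul_eq_one_right h1).trans (inv_inv x)).symm]
    exact w.2
  have h2 : g x⁻¹ ∈ V.nonunits := hIV ⟨e ⟨x⁻¹, hxi⟩, (by
    show e.symm (e ⟨x⁻¹, hxi⟩) ∈ maximalIdeal W
    rwa [e.symm_apply_apply]), rfl⟩
  rw [ValuationSubring.mem_nonunits_iff, map_inv₀, map_inv₀, inv_lt_one₀] at h2
  · exact not_lt.2 ((V.valuation_le_one_iff _).2 hx) h2
  · exact zero_lt_iff.2 ((_root_.map_ne_zero _).2 ((map_ne_zero_iff _ g.injective).2 hx0))

set_option maxHeartbeats 4000000 in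
theorem exists_separable_solution (p : ℕ) (hp : p.Prime) (A B K L : Type u)
    [CommRing A] [IsDomain A] [IsDiscreteValuationRing A] [CommRing B] [IsDomain B] [IsDiscreteValuationRing B]
    [Algebra A B] (hinj : Function.Injective (algebraMap A B)) [IsLocalHom (algebraMap A B)]
    [Field K] [Field L] [Algebra A K] [IsFractionRing A K] [Algebra B L] [IsFractionRing B L]
    [Algebra K L] [Algebra A L] [IsScalarTower A K L] [IsScalarTower A B L] [CharP K p]
    [Algebra.IsGeometricallyReduced K L] (hB : CAlg.IsNagata B)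
    (K₁ K₂ : Type u) [Field K₁] [Field K₂] [Algebra K K₁] [Algebra K K₂] [Algebra K₁ K₂] [IsScalarTower K K₁ K₂]
    [FiniteDimensional K K₁] [FiniteDimensional K₁ K₂] (hsol : EtRam.IsSolution B K L K₂)
    [IsPurelyInseparable K₁ K₂] (hdeg : Module.finrank K₁ K₂ = p) :
    ∃ (K₃ : Type u) (_ : Field K₃) (_ : Algebra K K₃) (_ : Algebra K₁ K₃) (_ : IsScalarTower K K₁ K₃),
      FiniteDimensional K₁ K₃ ∧ Algebra.IsSeparable K₁ K₃ ∧ EtRam.IsSolution B K L K₃ := by
  classical
  haveI : Fact p.Prime := ⟨hp⟩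
  haveI : CharP K₁ p := charP_of_injective_algebraMap (algebraMap K K₁).injective p
  haveI : CharP L p := charP_of_injective_algebraMap (algebraMap K L).injective p
  haveI : SMulCommClass K B L := ⟨fun k b l => by simp only [Algebra.smul_def]; ring⟩
  obtain ⟨-, hpow⟩ := PInsepStepLib.pow_mem_range hp K₁ K₂ hdeg
  haveI : FiniteDimensional K K₂ := FiniteDimensional.trans K K₁ K₂
  -- integral data
  letI : Algebra A K₁ := ((algebraMap K K₁).comp (algebraMap A K)).toAlgebra
  haveI : IsScalarTower A K K₁ := IsScalarTower.of_algebraMap_eq fun _ => rfl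
  letI : Algebra A K₂ := ((algebraMap K K₂).comp (algebraMap A K)).toAlgebra
  haveI : IsScalarTower A K K₂ := IsScalarTower.of_algebraMap_eq fun _ => rfl
  haveI : IsScalarTower A K₁ K₂ := IsScalarTower.of_algebraMap_eq fun r => by
    show algebraMap K K₂ (algebraMap A K r) = algebraMap K₁ K₂ (algebraMap K K₁ (algebraMap A K r))
    exact IsScalarTower.algebraMap_apply K K₁ K₂ _
  obtain ⟨θ₀, hθ₀⟩ : ∃ x : K₂, x ∉ Set.range (algebraMap K₁ K₂) := by
    by_contra! h
    have h1 : Module.finrank K₁ K₂ = 1 := by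
      rw [← (AlgEquiv.ofBijective (Algebra.ofId K₁ K₂) ⟨(algebraMap K₁ K₂).injective, h⟩).toLinearEquiv.finrank_eq,
        Module.finrank_self]
    exact hp.ne_one (hdeg.symm.trans h1)
  obtain ⟨⟨s₀, hs₀⟩, hint₀⟩ := IsIntegral.exists_multiple_integral_of_isLocalization (nonZeroDivisors A) θ₀
    (Algebra.IsIntegral.isIntegral (R := K) θ₀)
  set θ : K₂ := algebraMap A K₂ s₀ * θ₀ with hθdef
  have hθint : IsIntegral A θ := by
    rw [hθdef, ← Algebra.smul_def]; exact hint₀
  have hθnot : θ ∉ Set.range (algebraMap K₁ K₂) := by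
    rintro ⟨k, hk⟩
    have hs0 : algebraMap A K₁ s₀ ≠ 0 := (map_ne_zero_iff _
      (ASKumLib.injective_algebraMap' (A := A) (K := K) (L := K₁))).2 (nonZeroDivisors.ne_zero hs₀)
    refine hθ₀ ⟨k / algebraMap A K₁ s₀, ?_⟩
    rw [map_div₀, hk, hθdef, ← IsScalarTower.algebraMap_apply,
      mul_div_cancel_left₀ _ ((map_ne_zero_iff _ (ASKumLib.injective_algebraMap' (A := A) (K := K) (L := K₂))).2
        (nonZeroDivisors.ne_zero hs₀))]
  obtain ⟨a, ha⟩ := hpow θ
  have haint : IsIntegral A a := (isIntegral_algHom_iff (IsScalarTower.toAlgHom A K₁ K₂) (algebraMap K₁ K₂).injective).1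
    (show IsIntegral A (algebraMap K₁ K₂ a) from ha ▸ hθint.pow p)
  have hirr : Irreducible (X ^ p - C a : K₁[X]) := X_pow_sub_C_irreducible_of_prime hp fun b hb => hθnot ⟨b, by
    haveI : CharP K₂ p := charP_of_injective_algebraMap (algebraMap K₁ K₂).injective p
    refine frobenius_inj K₂ p ?_
    simp only [frobenius_def]
    rw [← map_pow, hb, ha]⟩
  have hθroot : aeval θ (X ^ p - C a : K₁[X]) = 0 := by rw [map_sub, map_pow, aeval_X, aeval_C, ha, sub_self]
  have hmin : minpoly K₁ θ = X ^ p - C a :=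
    (minpoly.eq_of_irreducible_of_monic hirr hθroot (monic_X_pow_sub_C _ hp.ne_zero)).symm
  have hθi : IsIntegral K₁ θ := Algebra.IsIntegral.isIntegral θ
  have hgen : Algebra.adjoin K₁ {θ} = ⊤ := by
    have h : IntermediateField.adjoin K₁ ({θ} : Set K₂) = ⊤ :=
      IntermediateField.eq_of_le_of_finrank_eq le_top (by
        rw [IntermediateField.adjoin.finrank hθi, hmin, natDegree_X_pow_sub_C, IntermediateField.finrank_top', hdeg])
    rw [← IntermediateField.adjoin_simple_toSubalgebra_of_isAlgebraic hθi.isAlgebraic, h,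
      IntermediateField.top_toSubalgebra]
  -- the bound
  obtain ⟨hred, hart, d, hd, hbound⟩ := exists_bound (K := K) (L := L) hB hp.ne_zero (ha.symm : θ ^ p = algebraMap K₁ K₂ a) hgen
  haveI := hred
  haveI := hart
  obtain ⟨π, hπ⟩ := IsDiscreteValuationRing.exists_irreducible B
  obtain ⟨πA, hπA⟩ := IsDiscreteValuationRing.exists_irreducible A
  obtain ⟨k, v, hdk⟩ := IsDiscreteValuationRing.eq_unit_mul_pow_irreducible hd hπ
  -- the separable polynomial
  let s : K₁ := algebraMap A K₁ (πA ^ (p * (k + 2)))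
  have hs0 : s ≠ 0 := (map_ne_zero_iff _ (ASKumLib.injective_algebraMap' (A := A) (K := K) (L := K₁))).2
    (pow_ne_zero _ hπA.ne_zero)
  let f : K₁[X] := X ^ p - (Polynomial.C s * X + Polynomial.C a)
  have hlin : (Polynomial.C s * X + Polynomial.C a).degree < ((p : ℕ) : WithBot ℕ) :=
    lt_of_le_of_lt degree_linear_le (by exact_mod_cast hp.one_lt)
  have hf : f.Monic := (monic_X_pow p).sub_of_left (by rwa [degree_X_pow])
  have hfdeg : f.natDegree = p := by
    rw [natDegree_eq_of_degree_eq (degree_sub_eq_left_of_degree_lt (by rwa [degree_X_pow])), natDegree_X_pow]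
  have hfsep : f.Separable := by
    rw [Polynomial.separable_def, show derivative f = Polynomial.C (-s) by
      simp [f, derivative_X_pow, CharP.cast_eq_zero]]
    exact IsCoprime.symm ⟨Polynomial.C (-s)⁻¹, 0, by
      rw [zero_mul, add_zero, ← map_mul, inv_mul_cancel₀ (neg_ne_zero.2 hs0), map_one]⟩
  obtain ⟨θ', hθ'⟩ := IsAlgClosed.exists_aeval_eq_zero (AlgebraicClosure K₁) f (by
    rw [degree_eq_natDegree hf.ne_zero, hfdeg]; exact_mod_cast hp.ne_zero)
  have hθ'int : IsIntegral K₁ θ' := ⟨f, hf, by simpa [aeval_def] using hθ'⟩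
  let K₃ := IntermediateField.adjoin K₁ ({θ'} : Set (AlgebraicClosure K₁))
  haveI : FiniteDimensional K₁ K₃ := IntermediateField.adjoin.finiteDimensional hθ'int
  let t₃ : K₃ := ⟨θ', IntermediateField.mem_adjoin_simple_self K₁ θ'⟩
  have ht₃ : aeval t₃ f = 0 := Subtype.ext ((aeval_algHom_apply K₃.val t₃ f).symm.trans hθ')
  have htop : Algebra.adjoin K₁ {t₃} = ⊤ := (IntermediateField.adjoin.powerBasis hθ'int).adjoin_gen_eq_top
  refine ⟨K₃, inferInstance, inferInstance, inferInstance, inferInstance, inferInstance,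
    (IntermediateField.isSeparable_adjoin_simple_iff_isSeparable K₁ _).2 (hfsep.of_dvd (minpoly.dvd K₁ θ' hθ')), ?_⟩
  intro M _ _ _ _ _ _ hgenM W hW
  -- a common algebraically closed field
  let Ω := AlgebraicClosure M
  obtain ⟨V, hVW⟩ := exists_extension (algebraMap M Ω) W
  subst hVW
  letI : Algebra B Ω := ((algebraMap L Ω).comp (algebraMap B L)).toAlgebra
  haveI : IsScalarTower B L Ω := IsScalarTower.of_algebraMap_eq fun _ => rfl
  have hV : EtRam.Dominates B (algebraMap B Ω) V := by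
    have hB' : ∀ b : B, algebraMap B Ω b = algebraMap M Ω (algebraMap L M (algebraMap B L b)) := fun b =>
      IsScalarTower.algebraMap_apply L M Ω _
    refine ⟨fun b => ?_, fun b hb => ?_⟩
    · rw [hB']; exact hW.1 b
    · have h1 : (⟨algebraMap L M (algebraMap B L b), hW.1 b⟩ : V.comap (algebraMap M Ω)) ∈ maximalIdeal _ :=
        (ValuationSubring.valuation_lt_one_iff _ _).2 (hW.2 b hb)
      rw [hB']
      exact (V.valuation_lt_one_iff _).1 (map_nonunit (EtRam.inclOfComap V (algebraMap M Ω)) _ h1)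
  letI : Algebra K₁ Ω := (((algebraMap M Ω).comp (algebraMap K₃ M)).comp (algebraMap K₁ K₃)).toAlgebra
  haveI : IsScalarTower K K₁ Ω := IsScalarTower.of_algebraMap_eq fun r => by
    show algebraMap K Ω r = algebraMap M Ω (algebraMap K₃ M (algebraMap K₁ K₃ (algebraMap K K₁ r)))
    rw [← IsScalarTower.algebraMap_apply K K₁ K₃, ← IsScalarTower.algebraMap_apply K K₃ M,
      ← IsScalarTower.algebraMap_apply K M Ω]
  let e₂ : K₂ →ₐ[K₁] Ω := IsAlgClosed.lift
  let e : K₂ →ₐ[K] Ω := e₂.restrictScalars K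
  haveI : CharP Ω p := charP_of_injective_algebraMap (algebraMap L Ω).injective p
  haveI : CharP K₂ p := charP_of_injective_algebraMap (algebraMap K₁ K₂).injective p
  let θ₂ := e θ
  let θ₃ := algebraMap M Ω (algebraMap K₃ M t₃)
  have hk₁ : ∀ x : K₁, e (algebraMap K₁ K₂ x) = algebraMap K₁ Ω x := fun x => e₂.commutes x
  have hθ₂p : θ₂ ^ p = algebraMap K₁ Ω a := by
    simp only [θ₂]
    rw [← map_pow, ← ha, hk₁]
  have hθ₃p : θ₃ ^ p = algebraMap K₁ Ω s * θ₃ + algebraMap K₁ Ω a := by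
    have h := ht₃
    simp only [f, map_sub, map_add, map_mul, map_pow, aeval_X, aeval_C, sub_eq_zero] at h
    simp only [θ₃]
    rw [← map_pow, ← map_pow, h, map_add, map_mul, map_add, map_mul]
    rfl
  -- values
  let gB := algebraMap B Ω
  have hAK : ∀ r : A, algebraMap K₁ Ω (algebraMap A K₁ r) = gB (algebraMap A B r) := fun r => by
    show algebraMap K₁ Ω (algebraMap K K₁ (algebraMap A K r)) = algebraMap L Ω (algebraMap B L (algebraMap A B r))
    rw [← IsScalarTower.algebraMap_apply K K₁ Ω, ← IsScalarTower.algebraMap_apply A B L,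
      IsScalarTower.algebraMap_apply A K L, ← IsScalarTower.algebraMap_apply K L Ω]
  letI : Algebra A Ω := (gB.comp (algebraMap A B)).toAlgebra
  haveI : IsScalarTower A B Ω := IsScalarTower.of_algebraMap_eq fun _ => rfl
  haveI : IsScalarTower A K₁ Ω := IsScalarTower.of_algebraMap_eq fun r => (hAK r).symm
  have hA : ∀ r : A, algebraMap A Ω r ∈ V := fun r => hV.1 _
  have hθ₂1 : V.valuation θ₂ ≤ 1 := val_le_one_of_isIntegral hA (hθint.map (e₂.restrictScalars A))
  have haV : V.valuation (algebraMap K₁ Ω a) ≤ 1 :=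
    val_le_one_of_isIntegral hA (haint.map (IsScalarTower.toAlgHom A K₁ Ω))
  have hsV : V.valuation (algebraMap K₁ Ω s) ≤ V.valuation (gB π) ^ (p * (k + 2)) := by
    simp only [s]
    rw [hAK, map_pow, map_pow, map_pow]
    refine pow_le_pow_left' ?_ _
    obtain ⟨q, hq⟩ : π ∣ algebraMap A B πA := by
      rw [← Ideal.mem_span_singleton, ← hπ.maximalIdeal_eq]
      exact map_nonunit (algebraMap A B) πA hπA.not_isUnit
    rw [hq, map_mul, map_mul]
    exact mul_le_of_le_one_right' (PInsepStepLib.val_le_one hV q)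
  have hπ1 : V.valuation (gB π) < 1 := hV.2 π hπ.not_isUnit
  have hπpos : 0 < V.valuation (gB π) := PInsepStepLib.val_pos (L := L) hπ.ne_zero
  have hθ₃1 : V.valuation θ₃ ≤ 1 := by
    by_contra! h
    have h1 : V.valuation θ₃ ^ p ≤ V.valuation θ₃ := by
      rw [← map_pow, hθ₃p]
      refine (Valuation.map_add _ _ _).trans (max_le ?_ (haV.trans h.le))
      rw [map_mul]
      exact mul_le_of_le_one_left' (hsV.trans (pow_le_one₀ zero_le' hπ1.le))
    exact absurd h1 (not_le.2 (lt_self_pow₀ h hp.one_lt))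
  have hdelta : V.valuation (θ₃ - θ₂) ≤ V.valuation (gB π) ^ (k + 2) := by
    refine (pow_le_pow_iff_left₀ zero_le' zero_le' hp.ne_zero).1 ?_
    rw [← map_pow, sub_pow_char, hθ₃p, hθ₂p, add_sub_cancel_right, map_mul, ← pow_mul, mul_comm (k + 2) p]
    exact (mul_le_of_le_one_right' hθ₃1).trans hsV
  have hdpow : ∀ i : ℕ, V.valuation (θ₃ ^ i - θ₂ ^ i) ≤ V.valuation (gB π) ^ (k + 2) := fun i => by
    rw [← geom_sum₂_mul, map_mul]
    refine (mul_le_of_le_one_left' ((V.valuation_le_one_iff _).2 (sum_mem fun j _ => mul_mem (pow_mem ?_ _) (pow_mem ?_ _)))).trans hdelta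
    · exact (V.valuation_le_one_iff _).1 hθ₃1
    · exact (V.valuation_le_one_iff _).1 hθ₂1
  -- the key estimate
  have close : ∀ m : Fin p → Ω, (∀ i, m i ∈ (lower L K₁ e).range) →
      V.valuation (∑ i, m i * θ₃ ^ (i : ℕ)) = V.valuation (∑ i, m i * θ₂ ^ (i : ℕ)) ∧
        (V.valuation (∑ i, m i * θ₂ ^ (i : ℕ)) ≤ 1 →
          V.valuation (∑ i, m i * θ₂ ^ (i : ℕ) - ∑ i, m i * θ₃ ^ (i : ℕ)) < 1) := by
    intro m hm
    by_cases hall : ∀ i, m i = 0
    · simp [hall]
    push Not at hall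
    obtain ⟨i₁, hi₁⟩ := hall
    obtain ⟨i₀, -, hmax⟩ := Finset.univ.exists_max_image (fun i => V.valuation (m i))
      ⟨(⟨0, hp.pos⟩ : Fin p), Finset.mem_univ _⟩
    have hpos : 0 < V.valuation (m i₀) :=
      lt_of_lt_of_le (zero_lt_iff.2 ((_root_.map_ne_zero _).2 hi₁)) (hmax i₁ (Finset.mem_univ _))
    have hN := norm_le e hV hπ (ha.symm : θ ^ p = algebraMap K₁ K₂ a) hgen hmin hd hbound m hm i₀
    have hdval : V.valuation (gB d) = V.valuation (gB π) ^ k := by
      rw [hdk, map_mul, map_mul, PInsepStepLib.val_unit hV, one_mul, map_pow, map_pow]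
    change V.valuation (m i₀) * (V.valuation (gB d) * V.valuation (gB π)) ≤
      V.valuation (∑ i, m i * θ₂ ^ (i : ℕ)) at hN
    rw [hdval, ← pow_succ] at hN
    have hlt : V.valuation (∑ i, m i * θ₂ ^ (i : ℕ) - ∑ i, m i * θ₃ ^ (i : ℕ)) <
        V.valuation (∑ i, m i * θ₂ ^ (i : ℕ)) := by
      refine lt_of_lt_of_le ?_ hN
      refine lt_of_le_of_lt ?_ (mul_lt_mul_of_pos_left
        (pow_lt_pow_right_of_lt_one₀ hπpos hπ1 (Nat.lt_succ_self (k + 1))) hpos)
      rw [← Finset.sum_sub_distrib]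
      refine Valuation.map_sum_le _ fun i _ => ?_
      rw [← mul_sub, map_mul, Valuation.map_sub_swap]
      exact mul_le_mul' (hmax i (Finset.mem_univ _)) (hdpow i)
    refine ⟨?_, fun h => lt_of_lt_of_le hlt h⟩
    conv_lhs => rw [show (∑ i, m i * θ₃ ^ (i : ℕ)) =
      ∑ i, m i * θ₂ ^ (i : ℕ) - (∑ i, m i * θ₂ ^ (i : ℕ) - ∑ i, m i * θ₃ ^ (i : ℕ)) by ring]
    exact Valuation.map_sub_eq_of_lt_left _ hlt
  -- the inseparable factor
  let M₂ : IntermediateField L Ω := (factor L e).range.toIntermediateField fun x hx => by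
    obtain ⟨r, rfl⟩ := hx
    exact (factor L e).range.inv_mem_of_algebraic (x := ⟨_, ⟨r, rfl⟩⟩)
      (IsIntegral.isAlgebraic ((Algebra.IsIntegral.isIntegral (R := L) r).map (factor L e)))
  have heM : ∀ x, e x ∈ M₂ := fun x => ⟨(1 : L) ⊗ₜ x, by simp [factor]⟩
  letI : Algebra K₂ M₂ := (e.toRingHom.codRestrict M₂ heM).toAlgebra
  haveI : IsScalarTower K K₂ M₂ := IsScalarTower.of_algebraMap_eq fun r => Subtype.ext (e.commutes r).symm
  have hgen₂ : Algebra.adjoin L (Set.range (algebraMap K₂ M₂)) = ⊤ := by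
    refine eq_top_iff.2 ?_
    rintro ⟨_, r, rfl⟩ -
    induction r using TensorProduct.induction_on with
    | zero => convert zero_mem (Algebra.adjoin L (Set.range (algebraMap K₂ M₂))); exact map_zero (factor L e)
    | tmul l x =>
      convert mul_mem (Subalgebra.algebraMap_mem (Algebra.adjoin L (Set.range (algebraMap K₂ M₂))) l)
        (Algebra.subset_adjoin (R := L) ⟨x, rfl⟩)
      exact Algebra.TensorProduct.lift_tmul ..
    | add x y hx hy => convert add_mem hx hy; exact map_add (factor L e) x y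
  let g₂ : M₂ →+* Ω := M₂.val.toRingHom
  have hdom₂ : EtRam.Dominates B ((algebraMap L M₂).comp (algebraMap B L)) (V.comap g₂) := by
    refine ⟨fun b => hV.1 b, fun b hb => ?_⟩
    refine ((V.comap g₂).valuation_lt_one_iff ⟨_, hV.1 b⟩).1 ?_
    rw [mem_maximalIdeal, mem_nonunits_iff]
    exact fun hu => (mem_maximalIdeal _).1 ((V.valuation_lt_one_iff _).2 (hV.2 b hb)) (hu.map (EtRam.inclOfComap V g₂))
  have hsol₂ := hsol M₂ hgen₂ (V.comap g₂) hdom₂
  -- coordinates
  let N : Subalgebra L Ω := (lower L K₁ e).range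
  have hK₁N : ∀ x : K₁, algebraMap K₁ Ω x ∈ N := fun x => ⟨(1 : L) ⊗ₜ x, (lower_tmul e x).trans (hk₁ x)⟩
  have coord₂ : ∀ x : M₂, ∃ m : Fin p → Ω, (∀ i, m i ∈ N) ∧ g₂ x = ∑ i, m i * θ₂ ^ (i : ℕ) := by
    intro x
    obtain ⟨x, r, rfl⟩ := x
    obtain ⟨c, hc⟩ := exists_tensor_coeffs hp.ne_zero (ha.symm : θ ^ p = algebraMap K₁ K₂ a) hgen r
    refine ⟨fun i => lower L K₁ e (c i), fun i => ⟨c i, rfl⟩, ?_⟩
    show factor L e r = _
    rw [hc, map_sum]
    refine Finset.sum_congr rfl fun i _ => ?_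
    rw [map_mul, map_pow, factor_incl]
    simp [factor, θ₂]
  have lift₂ : ∀ m : Fin p → Ω, (∀ i, m i ∈ N) → ∃ x : M₂, g₂ x = ∑ i, m i * θ₂ ^ (i : ℕ) := fun m hm => by
    refine ⟨⟨∑ i, m i * θ₂ ^ (i : ℕ), sum_mem fun i _ => mul_mem ?_ (pow_mem (heM θ) _)⟩, rfl⟩
    exact AlgHom.range_comp_le_range _ _ (hm i)
  let g₃ := algebraMap M Ω
  have lift₃ : ∀ m : Fin p → Ω, (∀ i, m i ∈ N) → ∃ y : M, g₃ y = ∑ i, m i * θ₃ ^ (i : ℕ) := by
    have hN : N ≤ (IsScalarTower.toAlgHom L M Ω).range := by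
      rintro _ ⟨c, rfl⟩
      induction c using TensorProduct.induction_on with
      | zero => exact ⟨0, by simp⟩
      | tmul l x =>
        refine ⟨algebraMap L M l * algebraMap K₃ M (algebraMap K₁ K₃ x), ?_⟩
        show algebraMap M Ω _ = factor L e (incl K L K₁ K₂ (l ⊗ₜ x))
        rw [map_mul, ← IsScalarTower.algebraMap_apply L M Ω]
        simp only [incl, factor, Algebra.TensorProduct.map_tmul, Algebra.TensorProduct.lift_tmul, AlgHom.coe_id, id_eq]
        exact congrArg (algebraMap L Ω l * ·) (hk₁ x).symm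
      | add x y hx hy =>
        exact (map_add (lower L K₁ e) x y).symm ▸ add_mem hx hy
    intro m hm
    choose y hy using fun i => hN (hm i)
    refine ⟨∑ i, y i * algebraMap K₃ M t₃ ^ (i : ℕ), ?_⟩
    rw [map_sum]
    refine Finset.sum_congr rfl fun i _ => ?_
    rw [map_mul, map_pow]
    exact congrArg (· * θ₃ ^ (i : ℕ)) (hy i)
  have coord₃ : ∀ y : M, ∃ m : Fin p → Ω, (∀ i, m i ∈ N) ∧ g₃ y = ∑ i, m i * θ₃ ^ (i : ℕ) := by
    intro y
    let fN : N[X] := X ^ p - (Polynomial.C ⟨_, hK₁N s⟩ * X + Polynomial.C ⟨_, hK₁N a⟩)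
    have hfN : fN.Monic := (monic_X_pow p).sub_of_left (by
      rw [degree_X_pow]; exact lt_of_le_of_lt degree_linear_le (by exact_mod_cast hp.one_lt))
    have hfNdeg : fN.natDegree = p := by
      rw [natDegree_eq_of_degree_eq (degree_sub_eq_left_of_degree_lt
        (by rw [degree_X_pow]; exact lt_of_le_of_lt degree_linear_le (by exact_mod_cast hp.one_lt))), natDegree_X_pow]
    have hroot : aeval θ₃ fN = 0 := by
      simp only [fN, map_sub, map_add, map_mul, map_pow, aeval_X, aeval_C]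
      rw [sub_eq_zero, hθ₃p]
      rfl
    have hle : g₃ y ∈ (Algebra.adjoin N {θ₃}).restrictScalars L := by
      have h1 : Algebra.adjoin L (Set.range (algebraMap K₃ M)) ≤
          ((Algebra.adjoin N {θ₃}).restrictScalars L).comap (IsScalarTower.toAlgHom L M Ω) := by
        refine Algebra.adjoin_le ?_
        rintro _ ⟨z, rfl⟩
        obtain ⟨q, rfl⟩ := (Algebra.adjoin_singleton_eq_range_aeval K₁ t₃ ▸ htop ▸ Algebra.mem_top :
          z ∈ (aeval t₃ : K₁[X] →ₐ[K₁] K₃).range)
        show g₃ (algebraMap K₃ M (aeval t₃ q)) ∈ Algebra.adjoin N {θ₃}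
        induction q using Polynomial.induction_on' with
        | add q q' hq hq' => rw [map_add, map_add, map_add]; exact add_mem hq hq'
        | monomial i r =>
          rw [aeval_monomial, map_mul, map_mul, map_pow, map_pow]
          exact mul_mem (Subalgebra.algebraMap_mem (Algebra.adjoin N {θ₃}) (⟨_, hK₁N r⟩ : N))
            (pow_mem (Algebra.subset_adjoin (Set.mem_singleton _)) _)
      exact h1 (hgenM ▸ Algebra.mem_top)
    obtain ⟨c, hc⟩ := exists_coeffs hfN hfNdeg hp.ne_zero hroot hle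
    exact ⟨fun i => (c i : Ω), fun i => (c i).2, hc⟩
  refine transfer V g₂ g₃ (algebraMap K₂ M₂) (algebraMap K₃ M) (fun x hx => ?_) (fun y hy => ?_) (fun x hx => ?_)
    (fun y hy => ?_) hsol₂
  · obtain ⟨m, hm, hxm⟩ := coord₂ x
    obtain ⟨y, hy⟩ := lift₃ m hm
    rw [hxm] at hx ⊢
    exact ⟨y, by rw [hy]; exact (close m hm).1, by rw [hy]; exact (close m hm).2 hx⟩
  · obtain ⟨m, hm, hym⟩ := coord₃ y
    obtain ⟨x, hx⟩ := lift₂ m hm
    rw [hym, (close m hm).1] at hy
    exact ⟨x, by rw [hx, hym]; exact (close m hm).1.symm, by rw [hx, hym]; exact (close m hm).2 hy⟩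
  · obtain ⟨c, hc⟩ := exists_coeffs (monic_X_pow_sub_C a hp.ne_zero) natDegree_X_pow_sub_C hp.ne_zero hθroot
      (hgen ▸ Algebra.mem_top : x ∈ Algebra.adjoin K₁ {θ})
    have hxm : g₂ (algebraMap K₂ M₂ x) = ∑ i, algebraMap K₁ Ω (c i) * θ₂ ^ (i : ℕ) := by
      show e x = _
      rw [hc, map_sum]
      exact Finset.sum_congr rfl fun i _ => by rw [map_mul, map_pow, hk₁]
    refine ⟨∑ i, algebraMap K₁ K₃ (c i) * t₃ ^ (i : ℕ), ?_⟩
    have hym : g₃ (algebraMap K₃ M (∑ i, algebraMap K₁ K₃ (c i) * t₃ ^ (i : ℕ))) =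
        ∑ i, algebraMap K₁ Ω (c i) * θ₃ ^ (i : ℕ) := by
      simp only [map_sum, map_mul, map_pow]
      rfl
    rw [hxm] at hx ⊢
    rw [hym]
    exact ⟨(close _ fun i => hK₁N (c i)).1, (close _ fun i => hK₁N (c i)).2 hx⟩
  · obtain ⟨c, hc⟩ := exists_coeffs hf hfdeg hp.ne_zero ht₃ (htop ▸ Algebra.mem_top : y ∈ Algebra.adjoin K₁ {t₃})
    have hym : g₃ (algebraMap K₃ M y) = ∑ i, algebraMap K₁ Ω (c i) * θ₃ ^ (i : ℕ) := by
      rw [hc]
      simp only [map_sum, map_mul, map_pow]
      rfl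
    refine ⟨∑ i, algebraMap K₁ K₂ (c i) * θ ^ (i : ℕ), ?_⟩
    have hxm : g₂ (algebraMap K₂ M₂ (∑ i, algebraMap K₁ K₂ (c i) * θ ^ (i : ℕ))) =
        ∑ i, algebraMap K₁ Ω (c i) * θ₂ ^ (i : ℕ) := by
      show e _ = _
      rw [map_sum]
      exact Finset.sum_congr rfl fun i _ => by rw [map_mul, map_pow, hk₁]
    rw [hym, (close _ fun i => hK₁N (c i)).1] at hy
    rw [hxm, hym]
    exact ⟨(close _ fun i => hK₁N (c i)).1.symm, (close _ fun i => hK₁N (c i)).2 hy⟩

end Groth.Agent.SepApproxLib
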