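import Groth.Agent.SepApproxLib.Tools
import Groth.Agent.NagNorm.Basic
import Groth.Prelude.Def_Found

/-!
# Comparison of norms on a purely inseparable extension of degree `p`
-/

set_option autoImplicit false
set_option backward.isDefEq.respectTransparency false
set_option linter.style.haveILetI false
set_option linter.unusedSectionVars false
set_option maxHeartbeats 2000000
set_option synthInstance.maxHeartbeats 100000

universe u

open IsLocalRing Polynomial
open scoped TensorProduct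

noncomputable section

namespace Groth.Agent.SepApproxLib

variable {B K L K₁ K₂ : Type u} [CommRing B] [IsDomain B] [IsDiscreteValuationRing B] [Field K] [Field L]
  [Algebra B L] [IsFractionRing B L] [Algebra K L] [SMulCommClass K B L] [Field K₁] [Field K₂] [Algebra K K₁] [Algebra K K₂]
  [Algebra K₁ K₂] [IsScalarTower K K₁ K₂] [FiniteDimensional K K₁] [FiniteDimensional K₁ K₂]

variable (K L K₁ K₂) in
/-- Base change of `K₁ → K₂`. -/
def incl : L ⊗[K] K₁ →ₐ[L] L ⊗[K] K₂ :=
  Algebra.TensorProduct.map (AlgHom.id L L) (IsScalarTower.toAlgHom K K₁ K₂)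

theorem exists_coeffs {R S : Type*} [CommRing R] [Nontrivial R] [CommRing S] [Algebra R S] {p : ℕ} {f : R[X]} (hf : f.Monic)
    (hdeg : f.natDegree = p) (hp : p ≠ 0) {t x : S} (ht : aeval t f = 0) (hx : x ∈ Algebra.adjoin R {t}) :
    ∃ c : Fin p → R, x = ∑ i, algebraMap R S (c i) * t ^ (i : ℕ) := by
  obtain ⟨q, rfl⟩ := (Algebra.adjoin_singleton_eq_range_aeval R t ▸ hx : x ∈ (aeval t : R[X] →ₐ[R] S).range)
  refine ⟨fun i => (q %ₘ f).coeff i, ?_⟩
  show aeval t q = _
  rw [show aeval t q = aeval t (q %ₘ f) by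
    conv_lhs => rw [← modByMonic_add_div q f]
    rw [map_add, map_mul, ht, zero_mul, add_zero]]
  have hlt : (q %ₘ f).natDegree < p := hdeg ▸ natDegree_modByMonic_lt q hf fun h => hp (by rw [← hdeg, h, natDegree_one])
  rw [aeval_eq_sum_range' hlt, Finset.sum_range]
  simp [Algebra.smul_def]

theorem exists_tensor_coeffs {p : ℕ} (hp : p ≠ 0) {θ : K₂} {a : K₁} (hθ : θ ^ p = algebraMap K₁ K₂ a)
    (hgen : Algebra.adjoin K₁ {θ} = ⊤) (y : L ⊗[K] K₂) :
    ∃ c : Fin p → L ⊗[K] K₁, y = ∑ i, incl K L K₁ K₂ (c i) * ((1 : L) ⊗ₜ[K] θ) ^ (i : ℕ) := by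
  induction y using TensorProduct.induction_on with
  | zero => exact ⟨0, by simp⟩
  | tmul l k =>
    obtain ⟨c, hc⟩ := exists_coeffs (monic_X_pow_sub_C a hp) natDegree_X_pow_sub_C hp
      (by rw [map_sub, map_pow, aeval_X, aeval_C, hθ, sub_self] : aeval θ (X ^ p - C a) = 0)
      (hgen ▸ Algebra.mem_top : k ∈ Algebra.adjoin K₁ {θ})
    refine ⟨fun i => l ⊗ₜ c i, ?_⟩
    rw [hc, TensorProduct.tmul_sum]
    refine Finset.sum_congr rfl fun i _ => ?_
    rw [incl, Algebra.TensorProduct.map_tmul, Algebra.TensorProduct.tmul_pow, one_pow,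
      Algebra.TensorProduct.tmul_mul_tmul, mul_one]
    rfl
  | add y z hy hz =>
    obtain ⟨c, hc⟩ := hy
    obtain ⟨c', hc'⟩ := hz
    exact ⟨c + c', by simp only [Pi.add_apply, map_add, add_mul, Finset.sum_add_distrib, ← hc, ← hc']⟩

/-- Integral elements have bounded denominators. -/
theorem exists_bound [Algebra.IsGeometricallyReduced K L] (hB : CAlg.IsNagata B) {p : ℕ} (hp : p ≠ 0) {θ : K₂}
    {a : K₁} (hθ : θ ^ p = algebraMap K₁ K₂ a) (hgen : Algebra.adjoin K₁ {θ} = ⊤) :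
    IsReduced (L ⊗[K] K₂) ∧ IsArtinianRing (L ⊗[K] K₂) ∧
    ∃ d : B, d ≠ 0 ∧ ∀ y : L ⊗[K] K₂, IsIntegral B y →
      ∃ c : Fin p → L ⊗[K] K₁, (∀ i, IsIntegral B (c i)) ∧
        algebraMap B (L ⊗[K] K₂) d * y = ∑ i, incl K L K₁ K₂ (c i) * ((1 : L) ⊗ₜ[K] θ) ^ (i : ℕ) := by
  classical
  haveI : FiniteDimensional K K₂ := FiniteDimensional.trans K K₁ K₂
  haveI : IsScalarTower B L (L ⊗[K] K₂) := IsScalarTower.of_algebraMap_eq fun _ => rfl
  haveI : IsScalarTower B L (L ⊗[K] K₁) := IsScalarTower.of_algebraMap_eq fun _ => rfl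
  haveI hred : IsReduced (L ⊗[K] K₂) := isReduced_of_injective _ (Algebra.TensorProduct.comm K L K₂).injective
  haveI hart : IsArtinianRing (L ⊗[K] K₂) := IsArtinianRing.of_finite L _
  refine ⟨hred, hart, ?_⟩
  letI : ∀ m : MaximalSpectrum (L ⊗[K] K₂), Field ((L ⊗[K] K₂) ⧸ m.asIdeal) := fun m => Ideal.Quotient.field _
  haveI : Algebra.EssFiniteType B L := Algebra.EssFiniteType.of_isLocalization L (nonZeroDivisors B)
  haveI : ∀ m : MaximalSpectrum (L ⊗[K] K₂), Algebra.EssFiniteType B ((L ⊗[K] K₂) ⧸ m.asIdeal) := fun m => by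
    haveI : IsScalarTower B L ((L ⊗[K] K₂) ⧸ m.asIdeal) := IsScalarTower.of_algebraMap_eq fun _ => rfl
    exact Algebra.EssFiniteType.comp B L _
  haveI := NagNorm.finite_integralClosure_of_injective hB (fun m : MaximalSpectrum (L ⊗[K] K₂) => (L ⊗[K] K₂) ⧸ m.asIdeal)
    (fun m => Ideal.Quotient.mkₐ B m.asIdeal) fun t ht => by
      have hmem : t ∈ nilradical (L ⊗[K] K₂) := by
        rw [nilradical_eq_sInf, Ideal.mem_sInf]
        intro q hq
        haveI : q.IsPrime := hq
        exact Ideal.Quotient.eq_zero_iff_mem.1 (ht ⟨q, IsArtinianRing.isMaximal_of_isPrime q⟩)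
      exact (mem_nilradical.1 hmem).eq_zero
  -- a denominator for a single element
  have hone : ∀ y : L ⊗[K] K₂, ∃ d : B, d ≠ 0 ∧ ∃ c : Fin p → L ⊗[K] K₁, (∀ i, IsIntegral B (c i)) ∧
      algebraMap B (L ⊗[K] K₂) d * y = ∑ i, incl K L K₁ K₂ (c i) * ((1 : L) ⊗ₜ[K] θ) ^ (i : ℕ) := by
    intro y
    obtain ⟨c, hc⟩ := exists_tensor_coeffs hp hθ hgen y
    have hd : ∀ i, ∃ d : B, d ≠ 0 ∧ IsIntegral B (d • c i) := fun i => by
      obtain ⟨⟨d, hd⟩, h⟩ := IsIntegral.exists_multiple_integral_of_isLocalization (nonZeroDivisors B) (c i)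
        (Algebra.IsIntegral.isIntegral (R := L) (c i))
      exact ⟨d, nonZeroDivisors.ne_zero hd, h⟩
    choose d hd hdi using hd
    refine ⟨∏ i, d i, Finset.prod_ne_zero_iff.2 fun i _ => hd i, fun i => (∏ j, d j) • c i, fun i => ?_, ?_⟩
    · beta_reduce
      rw [← Finset.prod_erase_mul _ _ (Finset.mem_univ i), mul_smul]
      exact (hdi i).smul _
    · rw [hc, Finset.mul_sum]
      refine Finset.sum_congr rfl fun i _ => ?_
      beta_reduce
      rw [Algebra.smul_def, map_mul, ← mul_assoc]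
      congr 2
      exact ((incl K L K₁ K₂).restrictScalars B).commutes _ |>.symm
  obtain ⟨s, hs⟩ := (Module.Finite.fg_top (R := B) (M := integralClosure B (L ⊗[K] K₂))).map
    (integralClosure B (L ⊗[K] K₂)).val.toLinearMap
  choose d hd c hc hcy using hone
  refine ⟨∏ y ∈ s, d y, Finset.prod_ne_zero_iff.2 fun y _ => hd y, fun y hy => ?_⟩
  have hys : y ∈ Submodule.span B (s : Set (L ⊗[K] K₂)) := hs ▸ ⟨⟨y, hy⟩, trivial, rfl⟩
  clear hy
  induction hys using Submodule.span_induction with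
  | mem y hy =>
    refine ⟨fun i => (∏ z ∈ s.erase y, d z) • c y i, fun i => (hc y i).smul _, ?_⟩
    rw [← Finset.prod_erase_mul s d hy, map_mul, mul_assoc, hcy, Finset.mul_sum]
    refine Finset.sum_congr rfl fun i _ => ?_
    beta_reduce
    rw [Algebra.smul_def, map_mul, ← mul_assoc]
    congr 2
    exact ((incl K L K₁ K₂).restrictScalars B).commutes _ |>.symm
  | zero => exact ⟨0, fun _ => isIntegral_zero, by simp⟩
  | add y z _ _ hy hz =>
    obtain ⟨c₁, h1, h2⟩ := hy
    obtain ⟨c₂, h3, h4⟩ := hz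
    exact ⟨c₁ + c₂, fun i => (h1 i).add (h3 i), by
      simp only [Pi.add_apply, map_add, add_mul, mul_add, Finset.sum_add_distrib, ← h2, ← h4]⟩
  | smul r y _ hy =>
    obtain ⟨c₁, h1, h2⟩ := hy
    refine ⟨r • c₁, fun i => (h1 i).smul r, ?_⟩
    rw [Algebra.smul_def, mul_left_comm, h2, Finset.mul_sum]
    refine Finset.sum_congr rfl fun i _ => ?_
    rw [Pi.smul_apply, Algebra.smul_def, map_mul, ← mul_assoc]
    congr 2
    exact ((incl K L K₁ K₂).restrictScalars B).commutes _ |>.symm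

variable {Ω : Type u} [Field Ω] [Algebra K Ω] [Algebra L Ω] [IsScalarTower K L Ω] [Algebra B Ω] [IsScalarTower B L Ω]
  (e : K₂ →ₐ[K] Ω)

variable (L) in
/-- The map to the residue field of a factor. -/
def factor : L ⊗[K] K₂ →ₐ[L] Ω := Algebra.TensorProduct.lift (Algebra.ofId L Ω) e fun _ _ => Commute.all _ _

variable (K₁) (L) in
/-- The lower factor. -/
def lower : L ⊗[K] K₁ →ₐ[L] Ω := (factor L e).comp (incl K L K₁ K₂)

theorem inv_mem_lower {x : Ω} (hx : x ∈ (lower L K₁ e).range) : x⁻¹ ∈ (lower L K₁ e).range := by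
  obtain ⟨r, rfl⟩ := hx
  exact (lower L K₁ e).range.inv_mem_of_algebraic (x := ⟨_, ⟨r, rfl⟩⟩)
    (IsIntegral.isAlgebraic ((Algebra.IsIntegral.isIntegral (R := L) r).map (lower L K₁ e)))

theorem isIntegral_lower {x : Ω} (hx : x ∈ (lower L K₁ e).range) : IsIntegral L x := by
  obtain ⟨r, rfl⟩ := hx
  exact (Algebra.IsIntegral.isIntegral (R := L) r).map (lower L K₁ e)

theorem lower_tmul (k : K₁) : lower L K₁ e ((1 : L) ⊗ₜ k) = e (algebraMap K₁ K₂ k) := by
  simp [lower, factor, incl]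

theorem factor_incl (c : L ⊗[K] K₁) : factor L e (incl K L K₁ K₂ c) = lower L K₁ e c := rfl

variable [IsReduced (L ⊗[K] K₂)] [IsArtinianRing (L ⊗[K] K₂)] {p : ℕ} [Fact p.Prime] [CharP Ω p] [CharP L p]

set_option maxHeartbeats 4000000 in
/-- The powers of the root are independent over the lower factor. -/
theorem coords_unique {θ : K₂} {a : K₁} (hθ : θ ^ p = algebraMap K₁ K₂ a) (hgen : Algebra.adjoin K₁ {θ} = ⊤)
    (hmin : minpoly K₁ θ = X ^ p - C a)
    (m : Fin p → Ω) (hm : ∀ i, m i ∈ (lower L K₁ e).range) (h : ∑ i, m i * e θ ^ (i : ℕ) = 0) : ∀ i, m i = 0 := by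
  have hp : p.Prime := Fact.out
  let M₁ : IntermediateField L Ω := (lower L K₁ e).range.toIntermediateField fun x hx => inv_mem_lower e hx
  have haM : e (algebraMap K₁ K₂ a) ∈ M₁ := ⟨(1 : L) ⊗ₜ a, lower_tmul e a⟩
  -- `e θ` is not in the lower factor
  have hnot : ∀ b : Ω, b ∈ (lower L K₁ e).range → b ^ p ≠ e (algebraMap K₁ K₂ a) := by
    rintro _ ⟨r, rfl⟩ hb
    change lower L K₁ e r ^ p = _ at hb
    let P : Polynomial Ω := X ^ p - C (e (algebraMap K₁ K₂ a))
    have hPdeg : P.natDegree = p := natDegree_X_pow_sub_C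
    have hP : P.Monic := monic_X_pow_sub_C _ hp.ne_zero
    let g₁ : K₁ →+* AdjoinRoot P := (AdjoinRoot.of P).comp (e.toRingHom.comp (algebraMap K₁ K₂))
    letI : Algebra K₁ (AdjoinRoot P) := g₁.toAlgebra
    have hroot : aeval (AdjoinRoot.root P) (X ^ p - C a : K₁[X]) = 0 := by
      rw [map_sub, map_pow, aeval_X, aeval_C]
      have h0 : aeval (AdjoinRoot.root P) P = 0 := by rw [AdjoinRoot.aeval_eq, AdjoinRoot.mk_self]
      simp only [P, map_sub, map_pow, aeval_X, aeval_C] at h0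
      exact h0
    have hsurj : Function.Surjective (aeval θ : K₁[X] →ₐ[K₁] K₂) := fun k =>
      (Algebra.adjoin_singleton_eq_range_aeval K₁ θ ▸ hgen ▸ Algebra.mem_top :
        k ∈ (aeval θ : K₁[X] →ₐ[K₁] K₂).range)
    have hker : RingHom.ker (aeval θ : K₁[X] →ₐ[K₁] K₂) ≤
        RingHom.ker (aeval (AdjoinRoot.root P) : K₁[X] →ₐ[K₁] AdjoinRoot P) := fun q hq => by
      obtain ⟨s, rfl⟩ := hmin ▸ minpoly.dvd K₁ θ hq
      show aeval _ _ = (0 : AdjoinRoot P)
      rw [map_mul, hroot, zero_mul]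
    let g₂ : K₂ →+* AdjoinRoot P :=
      (aeval θ : K₁[X] →ₐ[K₁] K₂).toRingHom.liftOfSurjective hsurj ⟨(aeval (AdjoinRoot.root P) : K₁[X] →ₐ[K₁] AdjoinRoot P).toRingHom, hker⟩
    have hg₂ : ∀ q : K₁[X], g₂ (aeval θ q) = aeval (AdjoinRoot.root P) q := fun q =>
      RingHom.liftOfRightInverse_comp_apply _ _ _ _ q
    have hg₂1 : ∀ k : K₁, g₂ (algebraMap K₁ K₂ k) = g₁ k := fun k => by
      have := hg₂ (C k)
      rwa [aeval_C, aeval_C] at this
    have hg₂θ : g₂ θ = AdjoinRoot.root P := by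
      have := hg₂ X
      rwa [aeval_X, aeval_X] at this
    let ψK : K₂ →ₐ[K] AdjoinRoot P :=
      { g₂ with
        commutes' := fun k => by
          show g₂ (algebraMap K K₂ k) = algebraMap K (AdjoinRoot P) k
          rw [IsScalarTower.algebraMap_apply K K₁ K₂, hg₂1]
          show AdjoinRoot.of P (e (algebraMap K₁ K₂ (algebraMap K K₁ k))) = _
          rw [← IsScalarTower.algebraMap_apply, AlgHom.commutes]
          rfl }
    let ψ : L ⊗[K] K₂ →ₐ[L] AdjoinRoot P :=
      Algebra.TensorProduct.lift (Algebra.ofId L (AdjoinRoot P)) ψK fun _ _ => Commute.all _ _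
    have hψincl : ∀ c : L ⊗[K] K₁, ψ (incl K L K₁ K₂ c) = AdjoinRoot.of P (lower L K₁ e c) := fun c => by
      induction c using TensorProduct.induction_on with
      | zero => simp
      | tmul l k =>
        simp only [ψ, incl, lower, factor, AlgHom.comp_apply, Algebra.TensorProduct.map_tmul,
          Algebra.TensorProduct.lift_tmul, AlgHom.coe_id, id_eq, map_mul]
        show algebraMap L (AdjoinRoot P) l * g₂ (algebraMap K₁ K₂ k) = _
        rw [hg₂1]
        rfl
      | add c c' hc hc' => simp only [map_add, hc, hc']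
    have hψθ : ψ ((1 : L) ⊗ₜ θ) = AdjoinRoot.root P := by
      simp only [ψ, Algebra.TensorProduct.lift_tmul, map_one, one_mul]
      exact hg₂θ
    let z : L ⊗[K] K₂ := incl K L K₁ K₂ r - (1 : L) ⊗ₜ θ
    haveI : Nontrivial (L ⊗[K] K₂) := (factor L e).toRingHom.domain_nontrivial
    haveI : CharP (L ⊗[K] K₂) p := charP_of_injective_algebraMap (algebraMap L (L ⊗[K] K₂)).injective p
    -- the quotient by the kernel of the lower factor is reduced
    let I : Ideal (L ⊗[K] K₂) := (RingHom.ker (lower L K₁ e)).map (incl K L K₁ K₂)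
    have hI : I ≤ RingHom.ker ψ := Ideal.map_le_iff_le_comap.2 fun c hc => by
      show ψ (incl K L K₁ K₂ c) = 0
      rw [hψincl, show lower L K₁ e c = 0 from hc, map_zero]
    have hzp : z ^ p ∈ I := by
      have hz' : z ^ p = incl K L K₁ K₂ (r ^ p - (1 : L) ⊗ₜ a) := by
        simp only [z]
        rw [sub_pow_char, map_sub, map_pow, Algebra.TensorProduct.tmul_pow, one_pow, hθ]
        simp [incl]
      rw [hz']
      refine Ideal.mem_map_of_mem _ ?_
      rw [RingHom.mem_ker, map_sub, map_pow, hb, lower_tmul, sub_self]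
    have hzI : z ∈ I := by
      haveI : IsSemisimpleRing (L ⊗[K] K₂) := IsArtinianRing.isSemisimpleRing_of_isReduced _
      obtain ⟨ε, hε, hspan⟩ := IsSemisimpleRing.ideal_eq_span_idempotent I
      rw [hspan, Ideal.mem_span_singleton'] at hzp ⊢
      obtain ⟨w, hw⟩ := hzp
      refine ⟨z, ?_⟩
      have h1 : ((1 - ε) * z) ^ p = 0 := by
        rw [mul_pow, hε.one_sub.pow_eq hp.ne_zero, ← hw]
        linear_combination (-w) * hε.eq
      have h2 := IsNilpotent.eq_zero (x := (1 - ε) * z) ⟨p, h1⟩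
      linear_combination -h2
    have h0 : ψ z = 0 := hI hzI
    simp only [z, map_sub, hψincl, hψθ] at h0
    rw [sub_eq_zero, ← AdjoinRoot.mk_C, ← AdjoinRoot.mk_X, AdjoinRoot.mk_eq_mk] at h0
    have h1 := natDegree_le_of_dvd h0 (fun h => X_sub_C_ne_zero (lower L K₁ e r) (by linear_combination -h))
    have h2 : (C (lower L K₁ e r) - X : Polynomial Ω).natDegree ≤ 1 := by
      rw [← neg_sub, natDegree_neg, natDegree_X_sub_C]
    have := hp.two_le
    omega
  have hirr : Irreducible (X ^ p - C (⟨_, haM⟩ : M₁) : M₁[X]) := X_pow_sub_C_irreducible_of_prime hp fun b hb =>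
    hnot b b.2 (congrArg Subtype.val hb)
  have hint : aeval (e θ) (X ^ p - C (⟨_, haM⟩ : M₁) : M₁[X]) = 0 := by
    rw [map_sub, map_pow, aeval_X, aeval_C, ← map_pow, hθ]
    exact sub_self _
  have hmin' := minpoly.eq_of_irreducible_of_monic hirr hint (monic_X_pow_sub_C _ hp.ne_zero)
  have hli := linearIndependent_pow (K := M₁) (e θ)
  rw [← hmin', natDegree_X_pow_sub_C] at hli
  intro i
  exact congrArg Subtype.val (Fintype.linearIndependent_iff.1 hli (fun j => (⟨m j, hm j⟩ : M₁)) h i)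

/-- The norm inequality. -/
theorem norm_le {V : ValuationSubring Ω} (hV : EtRam.Dominates B (algebraMap B Ω) V) {π : B} (hπ : Irreducible π)
    {θ : K₂} {a : K₁} (hθ : θ ^ p = algebraMap K₁ K₂ a) (hgen : Algebra.adjoin K₁ {θ} = ⊤)
    (hmin : minpoly K₁ θ = X ^ p - C a) {d : B} (hd : d ≠ 0)
    (hbound : ∀ y : L ⊗[K] K₂, IsIntegral B y →
      ∃ c : Fin p → L ⊗[K] K₁, (∀ i, IsIntegral B (c i)) ∧
        algebraMap B (L ⊗[K] K₂) d * y = ∑ i, incl K L K₁ K₂ (c i) * ((1 : L) ⊗ₜ[K] θ) ^ (i : ℕ))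
    (m : Fin p → Ω) (hm : ∀ i, m i ∈ (lower L K₁ e).range) (j : Fin p) :
    V.valuation (m j) * (V.valuation (algebraMap B Ω d) * V.valuation (algebraMap B Ω π)) ≤
      V.valuation (∑ i, m i * e θ ^ (i : ℕ)) := by
  classical
  have hp : p.Prime := Fact.out
  haveI : IsScalarTower B L (L ⊗[K] K₂) := IsScalarTower.of_algebraMap_eq fun _ => rfl
  set g := algebraMap B Ω
  have hg0 : ∀ r : B, r ≠ 0 → g r ≠ 0 := fun r hr => PInsepStepLib.algebraMap_ne_zero (L := L) hr
  obtain ⟨k, -, hmax⟩ := Finset.univ.exists_max_image (fun i => V.valuation (m i))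
    ⟨(⟨0, hp.pos⟩ : Fin p), Finset.mem_univ _⟩
  refine le_trans (mul_le_mul_left (hmax j (Finset.mem_univ _)) _) (le_of_not_gt fun hlt => ?_)
  set S := ∑ i, m i * e θ ^ (i : ℕ) with hS
  have hmk : m k ≠ 0 := fun h => by
    rw [h, map_zero, zero_mul] at hlt
    exact not_lt_zero' hlt
  let den : Ω := m k * (g d * g π)
  have hden : den ≠ 0 := mul_ne_zero hmk (mul_ne_zero (hg0 d hd) (hg0 π hπ.ne_zero))
  set M₁ := (lower L K₁ e).range with hM₁
  have hgM : ∀ r : B, g r ∈ M₁ := fun r => by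
    rw [show g r = algebraMap L Ω (algebraMap B L r) from IsScalarTower.algebraMap_apply B L Ω r]
    exact M₁.algebraMap_mem _
  have hdenM : den⁻¹ ∈ M₁ := inv_mem_lower e (mul_mem (hm k) (mul_mem (hgM d) (hgM π)))
  let z : Ω := S * den⁻¹
  have hz1 : V.valuation z ≤ 1 := by
    simp only [z, den]
    rw [map_mul, map_inv₀, map_mul, map_mul, ← div_eq_mul_inv]
    exact div_le_one_of_le₀ hlt.le zero_le'
  have haM : e θ ^ p ∈ M₁ := ⟨(1 : L) ⊗ₜ a, by rw [← map_pow, hθ]; exact lower_tmul e a⟩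
  have hzp : z ^ p ∈ M₁ := by
    simp only [z, hS]
    rw [mul_pow, sum_pow_char]
    refine mul_mem (sum_mem fun i _ => ?_) (pow_mem hdenM _)
    rw [mul_pow, ← pow_mul, mul_comm (i : ℕ) p, pow_mul]
    exact mul_mem (pow_mem (hm i) _) (pow_mem haM _)
  obtain ⟨t, ht, hti, htz, htv⟩ := exists_integral_mul (L := L) hV (isIntegral_lower e hzp)
    (by rw [map_pow]; exact pow_le_one₀ zero_le' hz1)
  have htM : t ∈ M₁ := by
    have : Algebra.adjoin B {z ^ p} ≤ M₁.restrictScalars B := Algebra.adjoin_le (Set.singleton_subset_iff.2 hzp)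
    exact this ht
  have hint : IsIntegral B (t * z) := IsIntegral.of_pow hp.pos (by
    rw [mul_pow, show t ^ p = t ^ (p - 1) * t by rw [← pow_succ, Nat.sub_add_cancel hp.pos], mul_assoc]
    exact (hti.pow _).mul htz)
  -- lift to the tensor product
  have hmem : t * z ∈ (factor L e).range := by
    have hle : M₁ ≤ (factor L e).range := AlgHom.range_comp_le_range _ _
    refine mul_mem (hle htM) (mul_mem (sum_mem fun i _ => mul_mem (hle (hm i)) (pow_mem ?_ _)) (hle hdenM))
    exact ⟨(1 : L) ⊗ₜ θ, by simp [factor]⟩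
  obtain ⟨y₀, hy₀⟩ := hmem
  change factor L e y₀ = t * z at hy₀
  obtain ⟨y, hyi, hy⟩ := exists_integral_preimage ((factor L e).restrictScalars B) y₀ (by
    show IsIntegral B (factor L e y₀); rwa [hy₀])
  change factor L e y = factor L e y₀ at hy
  obtain ⟨c, hci, hc⟩ := hbound y hyi
  have hc' := congrArg (factor L e) hc
  rw [map_mul, hy, hy₀, map_sum, IsScalarTower.algebraMap_apply B L (L ⊗[K] K₂), AlgHom.commutes,
    ← IsScalarTower.algebraMap_apply] at hc'
  simp only [map_mul, map_pow, factor_incl, show factor L e ((1 : L) ⊗ₜ θ) = e θ by simp [factor]] at hc'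
  have huniq := coords_unique e hθ hgen hmin (fun i => t * m i / (m k * g π) - lower L K₁ e (c i))
    (fun i => sub_mem (by
      rw [div_eq_mul_inv]
      exact mul_mem (mul_mem htM (hm i)) (inv_mem_lower e (mul_mem (hm k) (hgM π)))) ⟨_, rfl⟩) (by
      simp only [sub_mul, Finset.sum_sub_distrib]
      rw [← hc', sub_eq_zero]
      simp only [z, den, hS, Finset.mul_sum, Finset.sum_mul]
      refine Finset.sum_congr rfl fun i _ => ?_
      have := hg0 d hd
      field_simp
      rfl) k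
  rw [sub_eq_zero] at huniq
  have hv : V.valuation (lower L K₁ e (c k)) ≤ 1 :=
    val_le_one_of_isIntegral hV.1 ((hci k).map ((lower L K₁ e).restrictScalars B))
  rw [← huniq, map_div₀, map_mul, map_mul, htv, one_mul] at hv
  have hπpos : 0 < V.valuation (g π) := PInsepStepLib.val_pos (L := L) hπ.ne_zero
  have hπlt : V.valuation (g π) < 1 := hV.2 π hπ.not_isUnit
  have hkpos : 0 < V.valuation (m k) := zero_lt_iff.2 ((_root_.map_ne_zero _).2 hmk)
  rw [div_le_one₀ (mul_pos hkpos hπpos)] at hv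
  exact absurd hv (not_le.2 (mul_lt_of_lt_one_right hkpos hπlt))

end Groth.Agent.SepApproxLib
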