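import Groth.Prelude.Def_EtRam
import Groth.Agent.PInsepStepLib.Basic
import Mathlib

/-!
# Tools for replacing purely inseparable extensions by separable ones
-/

set_option autoImplicit false
set_option backward.isDefEq.respectTransparency false
set_option linter.style.haveILetI false
set_option linter.unusedSectionVars false
set_option maxHeartbeats 1000000

universe u

open IsLocalRing Polynomial
open scoped TensorProduct

noncomputable section

namespace Groth.Agent.SepApproxLib

/-- Integral elements lie in valuation rings containing the base. -/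
theorem val_le_one_of_isIntegral {B F : Type u} [CommRing B] [Field F] [Algebra B F] {V : ValuationSubring F}
    (hV : ∀ b : B, algebraMap B F b ∈ V) {x : F} (hx : IsIntegral B x) : V.valuation x ≤ 1 := by
  letI : Algebra B V := (RingHom.codRestrict (algebraMap B F) V hV).toAlgebra
  haveI : IsScalarTower B V F := IsScalarTower.of_algebraMap_eq fun _ => rfl
  obtain ⟨w, hw⟩ := IsIntegrallyClosed.isIntegral_iff.1 (hx.tower_top (A := V))
  rw [← hw]
  exact (V.valuation_le_one_iff _).2 w.2

section Multiple

variable {B L F : Type u} [CommRing B] [IsDomain B] [IsDiscreteValuationRing B] [Field L] [Algebra B L]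
  [IsFractionRing B L] [Field F] [Algebra L F] [Algebra B F] [IsScalarTower B L F]

theorem isIntegral_tail {b : ℕ → B} {n : ℕ} {x : F}
    (hx : ∑ i ∈ Finset.range (n + 1), algebraMap B F (b i) * x ^ i = 0) (m : ℕ) (hm : m ≤ n) :
    IsIntegral B (∑ i ∈ Finset.range (n + 1 - m), algebraMap B F (b (m + i)) * x ^ i) := by
  let R : Subring F := (integralClosure B F).toSubring
  haveI : IsIntegrallyClosedIn R F := inferInstanceAs (IsIntegrallyClosedIn (integralClosure B F) F)
  show _ ∈ R
  rw [Subring.eq_iInf_of_isIntegrallyClosedIn (R := R), Subring.mem_iInf]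
  rintro ⟨V, hV⟩
  show _ ∈ V
  have hB : ∀ r : B, algebraMap B F r ∈ V := fun r => hV (isIntegral_algebraMap : IsIntegral B (algebraMap B F r))
  by_cases hxV : x ∈ V
  · exact sum_mem fun i _ => mul_mem (hB _) (pow_mem hxV _)
  have hx0 : x ≠ 0 := fun h => hxV (h ▸ zero_mem _)
  have hxi : x⁻¹ ∈ V := (V.mem_or_inv_mem x).resolve_left hxV
  have hsum : ∑ i ∈ Finset.range (n + 1 - m), algebraMap B F (b (m + i)) * x ^ i =
      -∑ i ∈ Finset.range m, algebraMap B F (b i) * x⁻¹ ^ (m - i) := by
    apply mul_right_cancel₀ (pow_ne_zero m hx0)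
    rw [neg_mul, eq_neg_iff_add_eq_zero, Finset.sum_mul, Finset.sum_mul]
    refine Eq.trans ?_ hx
    rw [show n + 1 = m + (n + 1 - m) by omega, Finset.sum_range_add, add_comm, show m + (n + 1 - m) - m = n + 1 - m by omega]
    refine congrArg₂ (· + ·) (Finset.sum_congr rfl fun i hi => ?_) (Finset.sum_congr rfl fun i _ => by rw [pow_add]; ring)
    have hi' := Finset.mem_range.1 hi
    rw [inv_pow, mul_assoc, show x ^ m = x ^ (m - i) * x ^ i by rw [← pow_add, Nat.sub_add_cancel hi'.le],
      ← mul_assoc (x ^ (m - i))⁻¹, inv_mul_cancel₀ (pow_ne_zero _ hx0), one_mul]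
  rw [hsum]
  exact neg_mem (sum_mem fun i _ => mul_mem (hB _) (pow_mem hxi _))

/-- An element of a valuation ring is a quotient of integral elements, with denominator of value one. -/
theorem exists_integral_mul {V : ValuationSubring F} (hV : EtRam.Dominates B (algebraMap B F) V) {x : F}
    (hx : IsIntegral L x) (hxV : V.valuation x ≤ 1) :
    ∃ t : F, t ∈ Algebra.adjoin B {x} ∧ IsIntegral B t ∧ IsIntegral B (t * x) ∧ V.valuation t = 1 := by
  classical
  set q := minpoly L x with hq
  set n := q.natDegree with hn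
  obtain ⟨k, -, hmax⟩ := (Finset.range (n + 1)).exists_max_image (fun i => V.valuation (algebraMap L F (q.coeff i)))
    ⟨0, Finset.mem_range.2 n.succ_pos⟩
  have hk0 : q.coeff k ≠ 0 := fun h => by
    have h1 : V.valuation (algebraMap L F (q.coeff n)) ≤ V.valuation (algebraMap L F (q.coeff k)) :=
      hmax n (Finset.self_mem_range_succ n)
    rw [h, map_zero, map_zero, show q.coeff n = 1 from (minpoly.monic hx).coeff_natDegree, map_one, map_one,
      le_zero_iff] at h1
    exact one_ne_zero h1
  have hk0' : algebraMap L F (q.coeff k) ≠ 0 := (map_ne_zero_iff _ (algebraMap L F).injective).2 hk0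
  have hb : ∀ i, ∃ b : B, i ≤ n → algebraMap B L b = q.coeff i / q.coeff k := fun i => by
    by_cases hi : i ≤ n
    · obtain ⟨b, hb⟩ := PInsepStepLib.mem_range_of_val_le_one hV (q.coeff i / q.coeff k) (by
        rw [map_div₀, map_div₀]
        exact div_le_one_of_le₀ (hmax i (Finset.mem_range.2 (Nat.lt_succ_of_le hi))) zero_le')
      exact ⟨b, fun _ => hb⟩
    · exact ⟨0, fun h => absurd h hi⟩
  choose b hb using hb
  have hsum : ∑ i ∈ Finset.range (n + 1), algebraMap B F (b i) * x ^ i = 0 := by
    have h1 : ∑ i ∈ Finset.range (n + 1), algebraMap L F (q.coeff i) * x ^ i = 0 := by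
      refine Eq.trans ?_ (minpoly.aeval L x)
      rw [← hq, aeval_eq_sum_range]
      simp [Algebra.smul_def, hn]
    have h2 : ∑ i ∈ Finset.range (n + 1), algebraMap B F (b i) * x ^ i =
        (algebraMap L F (q.coeff k))⁻¹ * ∑ i ∈ Finset.range (n + 1), algebraMap L F (q.coeff i) * x ^ i := by
      rw [Finset.mul_sum]
      refine Finset.sum_congr rfl fun i hi => ?_
      rw [IsScalarTower.algebraMap_apply B L F, hb i (Nat.lt_succ_iff.1 (Finset.mem_range.1 hi)), map_div₀]
      ring
    rw [h2, h1, mul_zero]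
  -- the last unit coefficient
  obtain ⟨m, hm, hmax'⟩ := ((Finset.range (n + 1)).filter fun i => IsUnit (b i)).exists_max_image id (by
    have hk' : k ≤ n := by
      by_contra h
      exact hk0 (coeff_eq_zero_of_natDegree_lt (by omega))
    refine ⟨k, Finset.mem_filter.2 ⟨Finset.mem_range.2 (Nat.lt_succ_of_le hk'), ?_⟩⟩
    have h1 : b k = 1 := IsFractionRing.injective B L (by rw [hb k hk', div_self hk0, map_one])
    rw [h1]; exact isUnit_one)
  rw [Finset.mem_filter, Finset.mem_range] at hm
  set t := ∑ i ∈ Finset.range (n + 1 - m), algebraMap B F (b (m + i)) * x ^ i with ht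
  have htval : V.valuation t = 1 := by
    rw [ht, show n + 1 - m = (n - m) + 1 by omega, Finset.sum_range_succ', pow_zero, mul_one, add_zero,
      Valuation.map_add_eq_of_lt_right]
    · rw [← hm.2.unit_spec]; exact PInsepStepLib.val_unit hV _
    · have h1 : V.valuation (algebraMap B F (b m)) = 1 := by
        rw [← hm.2.unit_spec]; exact PInsepStepLib.val_unit hV _
      rw [h1]
      refine V.valuation.map_sum_lt one_ne_zero fun i hi => ?_
      have hi' := Finset.mem_range.1 hi
      rw [map_mul, map_pow]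
      refine lt_of_le_of_lt (mul_le_of_le_one_right' (pow_le_one₀ zero_le' hxV)) (hV.2 _ fun hu => ?_)
      have := hmax' (m + (i + 1)) (Finset.mem_filter.2 ⟨Finset.mem_range.2 (by omega), hu⟩)
      simp only [id_eq] at this
      omega
  refine ⟨t, sum_mem fun i _ => mul_mem (Subalgebra.algebraMap_mem _ _)
    (pow_mem (Algebra.subset_adjoin (Set.mem_singleton x)) _), isIntegral_tail hsum m (by omega), ?_, htval⟩
  rcases m with _ | m
  · exfalso
    rw [ht] at htval
    simp only [Nat.sub_zero, zero_add] at htval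
    rw [hsum, map_zero] at htval
    exact zero_ne_one htval
  · have h2 : ∑ i ∈ Finset.range (n + 1 - m), algebraMap B F (b (m + i)) * x ^ i = t * x + algebraMap B F (b m) := by
      rw [ht, show n + 1 - m = (n + 1 - (m + 1)) + 1 by omega, Finset.sum_range_succ', pow_zero, mul_one, add_zero,
        Finset.sum_mul]
      refine congrArg (· + _) (Finset.sum_congr rfl fun i _ => ?_)
      rw [show m + (i + 1) = m + 1 + i by omega, pow_succ]
      ring
    rw [show t * x = (t * x + algebraMap B F (b m)) - algebraMap B F (b m) by ring, ← h2]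
    exact (isIntegral_tail hsum m (by omega)).sub isIntegral_algebraMap

end Multiple

/-- Integral elements lift along maps from reduced Artinian rings to domains. -/
theorem exists_integral_preimage {B R F : Type u} [CommRing B] [CommRing R] [IsArtinianRing R] [IsReduced R] [Field F]
    [Algebra B R] [Algebra B F] (ρ : R →ₐ[B] F) (r : R) (hr : IsIntegral B (ρ r)) :
    ∃ y : R, IsIntegral B y ∧ ρ y = ρ r := by
  classical
  set I := RingHom.ker ρ.toRingHom with hI
  haveI hIp : I.IsPrime := RingHom.ker_isPrime _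
  haveI hIm : I.IsMaximal := IsArtinianRing.isMaximal_of_isPrime I
  let J : Ideal R := ⨅ m ∈ {m : MaximalSpectrum R | m.asIdeal ≠ I}, m.asIdeal
  have hJI : J ⊔ I = ⊤ := by
    by_contra h
    have hle : J ≤ I := by
      have h1 := hIm.eq_of_le h le_sup_right
      rw [h1]
      exact le_sup_left
    haveI : Finite (MaximalSpectrum R) := inferInstance
    let s : Finset (MaximalSpectrum R) := (Set.toFinite {m : MaximalSpectrum R | m.asIdeal ≠ I}).toFinset
    have hJs : J = s.inf fun m => m.asIdeal := by
      simp only [J, Finset.inf_eq_iInf, s, Set.Finite.mem_toFinset]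
    obtain ⟨m, hm, hmI⟩ := hIp.inf_le'.1 (hJs ▸ hle : (s.inf fun m => m.asIdeal) ≤ I)
    exact ((Set.Finite.mem_toFinset _).1 hm) (m.isMaximal.eq_of_le hIm.ne_top hmI)
  obtain ⟨e, he, f, hf, hef⟩ := Submodule.mem_sup.1 (hJI ▸ Submodule.mem_top : (1 : R) ∈ J ⊔ I)
  have hJI0 : ∀ z ∈ I, e * z = 0 := fun z hz => by
    have hmem : e * z ∈ nilradical R := by
      rw [nilradical_eq_sInf, Ideal.mem_sInf]
      intro q hq
      haveI : q.IsPrime := hq
      by_cases hqI : q = I
      · rw [hqI]; exact I.mul_mem_left _ hz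
      · refine q.mul_mem_right _ ?_
        have h1 : J ≤ q := iInf₂_le (⟨q, IsArtinianRing.isMaximal_of_isPrime q⟩ : MaximalSpectrum R) hqI
        exact h1 he
    exact (mem_nilradical.1 hmem).eq_zero
  have hee : e * e = e := by
    have h1 := hJI0 f hf
    linear_combination e * hef - h1
  have hρf : ρ f = 0 := hf
  have hρe : ρ e = 1 := by
    have h1 := congrArg ρ hef
    rwa [map_add, map_one, hρf, add_zero] at h1
  refine ⟨e * r, ?_, by rw [map_mul, hρe, one_mul]⟩
  obtain ⟨P, hP, hPr⟩ := hr
  have hPr' : aeval (ρ r) P = 0 := by simpa [aeval_def] using hPr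
  have hePr : e * aeval r P = 0 := hJI0 _ (by
    show ρ (aeval r P) = 0
    rw [← aeval_algHom_apply, hPr'])
  refine ⟨X * P, monic_X.mul hP, ?_⟩
  rw [← aeval_def, map_mul, aeval_X]
  have key : ∀ Q : B[X], e * aeval (e * r) Q = e * aeval r Q := fun Q => by
    induction Q using Polynomial.induction_on' with
    | add p q hp hq => rw [map_add, map_add, mul_add, mul_add, hp, hq]
    | monomial i a =>
      rw [aeval_monomial, aeval_monomial]
      induction i with
      | zero => simp
      | succ i ih =>
        rw [pow_succ, pow_succ]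
        linear_combination (e * r) * ih + (algebraMap B R a * r ^ i * r) * hee
  rw [mul_assoc, mul_left_comm, key P, hePr, mul_zero]

/-- Geometric reducedness only depends on the map of fields up to isomorphism. -/
theorem isGeometricallyReduced_of_equiv {k₂ k₃ E₂ E₃ : Type u} [Field k₂] [Field k₃] [Field E₂] [Field E₃]
    [Algebra k₂ E₂] [Algebra k₃ E₃] (σ : k₃ ≃+* k₂) (τ : E₃ ≃+* E₂)
    (h : ∀ a, τ (algebraMap k₃ E₃ a) = algebraMap k₂ E₂ (σ a)) [Algebra.IsGeometricallyReduced k₂ E₂] :
    Algebra.IsGeometricallyReduced k₃ E₃ := by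
  letI : Algebra k₃ k₂ := σ.toRingHom.toAlgebra
  letI : Algebra k₃ E₂ := ((algebraMap k₂ E₂).comp σ.toRingHom).toAlgebra
  haveI : IsScalarTower k₃ k₂ E₂ := IsScalarTower.of_algebraMap_eq fun _ => rfl
  let τ' : E₃ ≃ₐ[k₃] E₂ := AlgEquiv.ofRingEquiv (f := τ) h
  suffices Algebra.IsGeometricallyReduced k₃ E₂ from Algebra.IsGeometricallyReduced.of_injective τ'.toAlgHom τ'.injective
  rw [Algebra.isGeometricallyReduced_field_iff]
  let Ω₂ := AlgebraicClosure k₂
  let ι : AlgebraicClosure k₃ →ₐ[k₃] Ω₂ := IsAlgClosed.lift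
  haveI : TensorProduct.CompatibleSMul k₃ k₂ Ω₂ E₂ := ⟨fun r m n => by
    obtain ⟨r, rfl⟩ := σ.surjective r
    rw [show σ r = algebraMap k₃ k₂ r from rfl, algebraMap_smul, algebraMap_smul, TensorProduct.smul_tmul]⟩
  haveI : IsReduced (Ω₂ ⊗[k₂] E₂) := (Algebra.isGeometricallyReduced_field_iff k₂ E₂).1 inferInstance
  haveI : IsReduced (Ω₂ ⊗[k₃] E₂) :=
    isReduced_of_injective _ (Algebra.TensorProduct.equivOfCompatibleSMul k₂ k₃ k₃ Ω₂ E₂).injective
  exact isReduced_of_injective (Algebra.TensorProduct.map ι (AlgHom.id k₃ E₂))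
    (Module.Flat.rTensor_preserves_injective_linearMap _ ι.toRingHom.injective)

end Groth.Agent.SepApproxLib
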